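import Cfsg.Agent.Lib.SquarefreeClass.Count

/-!
The number of `p`-regular elements commuting with an element of the centre of a Sylow `p`-subgroup.
-/

set_option autoImplicit false
set_option linter.unusedSectionVars false
set_option linter.style.haveILetI false

namespace CfsgLib.SquarefreeClass

open CfsgLib.PGroup

variable {G : Type*} [Group G] [Finite G] {p : ℕ} [hp : Fact p.Prime]

/-- The two parts of an element are powers of it. -/
theorem parts_mem {S : Subgroup G} {x w : G} (hx : IsPEl p x) (hw : ¬ p ∣ orderOf w)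
    (hc : Commute x w) (h : x * w ∈ S) : x ∈ S ∧ w ∈ S := by
  obtain ⟨k, hk⟩ := hx
  have hx1 : x ^ p ^ k = 1 := hk ▸ pow_orderOf_eq_one x
  have hcop : Nat.Coprime (p ^ k) (orderOf w) :=
    Nat.Coprime.pow_left _ (hp.out.coprime_iff_not_dvd.2 hw)
  obtain ⟨e, h1, h0⟩ := Nat.chineseRemainder hcop 1 0
  have he : (x * w) ^ e = x := by
    rw [hc.mul_pow, orderOf_dvd_iff_pow_eq_one.1 (Nat.modEq_zero_iff_dvd.1 h0), mul_one,
      pow_eq_pow_mod e hx1, show e % p ^ k = 1 % p ^ k from h1, ← pow_eq_pow_mod 1 hx1, pow_one]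
  have hxS : x ∈ S := he ▸ pow_mem h e
  exact ⟨hxS, inv_mul_cancel_left x w ▸ mul_mem (inv_mem hxS) h⟩

/-- A `p`-element normalising a Sylow `p`-subgroup lies in it. -/
theorem mem_sylow_of_normalizer (P : Sylow p G) {x : G} (hx : IsPEl p x)
    (hn : x ∈ Subgroup.normalizer ((P : Subgroup G) : Set G)) : x ∈ (P : Subgroup G) := by
  obtain ⟨k, hk⟩ := hx
  have h1 : IsPGroup p (Subgroup.zpowers x) := Basic.isPGroup_zpowers (dvd_of_eq hk)
  have h2 := P.3 (h1.to_sup_of_normal_right' P.2 (Subgroup.zpowers_le.2 hn)) le_sup_right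
  exact h2 ▸ le_sup_left (b := (P : Subgroup G)) (Subgroup.mem_zpowers x)

/-- The number of `p`-regular elements centralising a Sylow `p`-subgroup. -/
noncomputable def regCentNum (P : Sylow p G) : ℕ :=
  Nat.card {w : G // ¬ p ∣ orderOf w ∧ w ∈ Subgroup.centralizer ((P : Subgroup G) : Set G)}

theorem card_eq_mul_regCentNum (P : Sylow p G) (S : Subgroup G)
    (hS : S ≤ Subgroup.normalizer ((P : Subgroup G) : Set G))
    (hr : ∀ w ∈ S, ¬ p ∣ orderOf w → w ∈ Subgroup.centralizer ((P : Subgroup G) : Set G))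
    (hCS : Subgroup.centralizer ((P : Subgroup G) : Set G) ≤ S) :
    Nat.card S = Nat.card ((P : Subgroup G) ⊓ S : Subgroup G) * regCentNum P := by
  rw [regCentNum, ← Nat.card_prod]
  refine (Nat.card_congr (Equiv.ofBijective (fun s => (⟨(s.1 : G) * (s.2 : G),
    mul_mem s.1.2.2 (hCS s.2.2.2)⟩ : S)) ⟨?_, ?_⟩)).symm
  · rintro ⟨⟨x, hx⟩, ⟨w, hw⟩⟩ ⟨⟨x', hx'⟩, ⟨w', hw'⟩⟩ he
    have he' : x * w = x' * w' := congrArg Subtype.val he
    obtain rfl := CountPElements.decomp_left_unique (p := p) (hw.2 x hx.1) (hw'.2 x' hx'.1)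
      (Basic.exists_orderOf_eq_pow_of_mem P.2 hx.1) (Basic.exists_orderOf_eq_pow_of_mem P.2 hx'.1)
      hw.1 hw'.1 he'
    obtain rfl := mul_left_cancel he'
    rfl
  · rintro ⟨g, hg⟩
    obtain ⟨x, w, he, hc, hx, hw⟩ := CountPElements.exists_decomp (p := p) g
    obtain ⟨hxS, hwS⟩ := parts_mem hx hw hc (he ▸ hg)
    exact ⟨⟨⟨x, mem_sylow_of_normalizer P hx (hS hxS), hxS⟩, ⟨w, hw, hr w hwS hw⟩⟩,
      Subtype.ext he⟩

theorem centralizer_le_normalizer' (P : Subgroup G) :
    Subgroup.centralizer (P : Set G) ≤ Subgroup.normalizer (P : Set G) := by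
  intro c hc
  rw [Subgroup.mem_normalizer_iff]
  intro h
  constructor
  · intro hh
    rwa [← hc h hh, mul_inv_cancel_right]
  · intro hh
    have := hc _ hh
    rw [show c * h * c⁻¹ * c = c * h by group] at this
    rwa [← mul_left_cancel this] at hh

theorem not_dvd_regCentNum (P : Sylow p G) : ¬ p ∣ regCentNum P := by
  set C := Subgroup.centralizer ((P : Subgroup G) : Set G)
  have hcard := card_eq_mul_regCentNum P C (centralizer_le_normalizer' _) (fun w hw _ => hw) le_rfl
  let R : Sylow p C := default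
  have hdvd : Nat.card (R : Subgroup C) ∣ Nat.card ((P : Subgroup G) ⊓ C : Subgroup G) := by
    rw [← Subgroup.card_map_of_injective C.subtype_injective]
    refine Subgroup.card_dvd_of_le fun z hz => ?_
    obtain ⟨r, hr, rfl⟩ := Subgroup.mem_map.1 hz
    obtain ⟨k, hk⟩ := Basic.exists_orderOf_eq_pow_of_mem R.2 hr
    exact ⟨mem_sylow_of_normalizer P ⟨k, by simpa using hk⟩ (centralizer_le_normalizer' _ r.2), r.2⟩
  rw [← (R : Subgroup C).card_mul_index] at hcard
  intro hd
  obtain ⟨z, hz⟩ := hdvd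
  rw [hz, mul_assoc] at hcard
  have := Nat.eq_of_mul_eq_mul_left Nat.card_pos hcard
  exact R.not_dvd_index (this ▸ hd.mul_left z)

theorem regNum_modEq (P : Sylow p G) {y : G} (hyP : y ∈ (P : Subgroup G))
    (hyC : y ∈ Subgroup.centralizer ((P : Subgroup G) : Set G)) :
    regNum p y ≡ regCentNum P [MOD p] := by
  have hmem : ∀ (u : (P : Subgroup G)) (w : {w : G // ¬ p ∣ orderOf w ∧ Commute y w}),
      ¬ p ∣ orderOf ((u : G) * w * (u : G)⁻¹) ∧ Commute y ((u : G) * w * (u : G)⁻¹) := by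
    intro u w
    have hu : Commute y (u : G) := (hyC u u.2).symm
    exact ⟨by rw [orderOf_conj]; exact w.2.1, (hu.mul_right w.2.2).mul_right hu.inv_right⟩
  letI : MulAction (P : Subgroup G) {w : G // ¬ p ∣ orderOf w ∧ Commute y w} :=
    { smul := fun u w => ⟨(u : G) * w * (u : G)⁻¹, hmem u w⟩
      one_smul := fun w => Subtype.ext (by
        show ((1 : (P : Subgroup G)) : G) * _ * ((1 : (P : Subgroup G)) : G)⁻¹ = _
        simp)
      mul_smul := fun u v w => Subtype.ext (by
        show ((u * v : (P : Subgroup G)) : G) * _ * ((u * v : (P : Subgroup G)) : G)⁻¹ =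
          (u : G) * ((v : G) * w * (v : G)⁻¹) * (u : G)⁻¹
        simp [mul_assoc]) }
  refine (P.2.card_modEq_card_fixedPoints _).trans ?_
  refine Eq.congr_right (congrArg (· % p) ?_) |>.1 rfl
  refine Nat.card_congr
    { toFun := fun w => ⟨(w.1 : G), w.1.2.1, fun u hu => ?_⟩
      invFun := fun w => ⟨⟨(w : G), w.2.1, w.2.2 y hyP⟩, fun u => Subtype.ext ?_⟩
      left_inv := fun w => rfl
      right_inv := fun w => rfl }
  · have h : u * (w.1 : G) * u⁻¹ = (w.1 : G) := congrArg Subtype.val (w.2 ⟨u, hu⟩)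
    rwa [mul_inv_eq_iff_eq_mul] at h
  · show (u : G) * (w : G) * (u : G)⁻¹ = (w : G)
    rw [mul_inv_eq_iff_eq_mul]
    exact w.2.2 u u.2

/-- For a central element of a Sylow subgroup, the count is a small multiple of the `p'`-part of
the order of its centralizer. -/
theorem exists_regNum_eq (P : Sylow p G) {a : ℕ} (ha : Nat.card (P : Subgroup G) = p ^ a)
    (hpos : 0 < a)
    (h : ∀ g : G, ¬ p ^ 2 ∣ (Subgroup.centralizer ({g} : Set G)).index)
    {y : G} (hyP : y ∈ (P : Subgroup G))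
    (hyC : y ∈ Subgroup.centralizer ((P : Subgroup G) : Set G)) :
    ∃ c M, regNum p y = c * M ∧ 0 < c ∧ c < p ∧
      Nat.card (Subgroup.centralizer ({y} : Set G)) = p ^ a * M ∧
      ((∀ k ∈ Subgroup.normalizer ((P : Subgroup G) : Set G), ¬ p ∣ orderOf k →
          k ∈ Subgroup.centralizer ((P : Subgroup G) : Set G)) → c = 1) := by
  set H := Subgroup.centralizer ({y} : Set G)
  have hPH : (P : Subgroup G) ≤ H := fun u hu =>
    Subgroup.mem_centralizer_singleton_iff.2 (hyC u hu)
  let PH : Sylow p H := P.subtype hPH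
  have hPHcard : Nat.card (PH : Subgroup H) = p ^ a := by
    show Nat.card ((P : Subgroup G).subgroupOf H) = _
    rw [Nat.card_congr (Subgroup.subgroupOfEquivOfLe hPH).toEquiv, ha]
  set M := (PH : Subgroup H).index
  have hH : Nat.card H = p ^ a * M := by rw [← hPHcard, (PH : Subgroup H).card_mul_index]
  have hpM : ¬ p ∣ M := PH.not_dvd_index
  have hcopM : Nat.Coprime (p ^ a) M := Nat.Coprime.pow_left _ (hp.out.coprime_iff_not_dvd.2 hpM)
  -- Frobenius' theorem
  have hroots : regNum p y = Nat.card {x : H // x ^ M = 1} := by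
    refine Nat.card_congr
      { toFun := fun w => ⟨⟨(w : G), Subgroup.mem_centralizer_singleton_iff.2 w.2.2.symm.eq⟩, ?_⟩
        invFun := fun x => ⟨((x : H) : G), fun hd => hpM (hd.trans ?_),
          ((Subgroup.mem_centralizer_singleton_iff.1 (x : H).2 :
            Commute ((x : H) : G) y)).symm⟩
        left_inv := fun w => rfl
        right_inv := fun x => rfl }
    · rw [← orderOf_dvd_iff_pow_eq_one]
      refine Nat.Coprime.dvd_of_dvd_mul_left ?_ (hH ▸ _root_.orderOf_dvd_natCard _)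
      rw [Subgroup.orderOf_mk]
      exact (Nat.Coprime.pow_left _ (hp.out.coprime_iff_not_dvd.2 w.2.1)).symm
    · rw [Subgroup.orderOf_coe]
      exact orderOf_dvd_of_pow_eq_one x.2
  obtain ⟨c, hc⟩ : M ∣ regNum p y := by
    rw [hroots]
    have := FrobeniusCount.gcd_dvd_card_roots (Nat.card H) M H rfl 1 (one_mem _)
    rwa [Nat.gcd_eq_left (Dvd.intro_left _ hH.symm)] at this
  have hmod := regNum_modEq P hyP hyC
  have hpN : ¬ p ∣ regNum p y := fun hd => not_dvd_regCentNum P
    (Nat.modEq_zero_iff_dvd.1 (hmod.symm.trans (Nat.modEq_zero_iff_dvd.2 hd)))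
  have hle := regNum_mul_le (ha ▸ (P : Subgroup G).card_subgroup_dvd_card) h
    (Basic.exists_orderOf_eq_pow_of_mem P.2 hyP)
  rw [show Nat.card (Subgroup.centralizer ({y} : Set G)) = p ^ a * M from hH, hc,
    show p ^ a = p ^ (a - 1) * p by rw [← pow_succ, Nat.sub_add_cancel hpos]] at hle
  have hMpos : 0 < M := Nat.pos_of_ne_zero fun h0 => hpM (h0 ▸ dvd_zero p)
  have hcp : c ≤ p := Nat.le_of_mul_le_mul_left
    (show M * p ^ (a - 1) * c ≤ M * p ^ (a - 1) * p from (le_of_eq (by ring)).trans (hle.trans (le_of_eq (by ring)))) (Nat.mul_pos hMpos (pow_pos hp.out.pos _))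
  have hcne : c ≠ p := fun hcp => hpN ⟨M, by rw [hc, hcp, mul_comm]⟩
  have hcpos : 0 < c := Nat.pos_of_ne_zero fun h0 => hpN ⟨0, by rw [hc, h0, mul_zero, mul_zero]⟩
  refine ⟨c, M, by rw [hc, mul_comm], hcpos, lt_of_le_of_ne hcp hcne, hH, fun hKT => ?_⟩
  -- the normalizer is `P` times its `p'`-centralizer and lies in `H`
  set N := Subgroup.normalizer ((P : Subgroup G) : Set G)
  have hNcard : Nat.card N = p ^ a * regCentNum P := by
    rw [card_eq_mul_regCentNum P N le_rfl hKT (centralizer_le_normalizer' _),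
      inf_eq_left.2 Subgroup.le_normalizer, ha]
  have hNH : N ≤ H := by
    intro g hg
    obtain ⟨x, w, he, hxw, hx, hw⟩ := CountPElements.exists_decomp (p := p) g
    obtain ⟨hxN, hwN⟩ := parts_mem hx hw hxw (he ▸ hg)
    rw [← he]
    exact mul_mem (hPH (mem_sylow_of_normalizer P hx hxN))
      (Subgroup.mem_centralizer_singleton_iff.2 (hKT w hwN hw y hyP).symm)
  have hn1 : N.relIndex H ≡ 1 [MOD p] := by
    have h1 : Nat.card (Sylow p H) ≡ 1 [MOD p] := card_sylow_modEq_one p H
    rw [PH.card_eq_index_normalizer] at h1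
    rwa [show N.relIndex H = (N.subgroupOf H).index from rfl,
      Subgroup.subgroupOf_normalizer_eq hPH]
  have hM2 : M = regCentNum P * N.relIndex H := by
    refine Nat.eq_of_mul_eq_mul_left (pow_pos hp.out.pos a) ?_
    rw [← hH, ← mul_assoc, ← hNcard]
    conv_lhs => rw [← (N.subgroupOf H).card_mul_index,
      Nat.card_congr (Subgroup.subgroupOfEquivOfLe hNH).toEquiv]
    rfl
  have h2 : c * M ≡ 1 * M [MOD p] := by
    rw [one_mul, mul_comm c M, ← hc]
    refine hmod.trans (Nat.ModEq.symm ?_)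
    rw [hM2]
    simpa using hn1.mul_left (regCentNum P)
  have h3 : c ≡ 1 [MOD p] :=
    Nat.ModEq.cancel_right_of_coprime (hp.out.coprime_iff_not_dvd.2 hpM) h2
  have h4 : c % p = 1 % p := h3
  rwa [Nat.mod_eq_of_lt (lt_of_le_of_ne hcp hcne), Nat.mod_eq_of_lt hp.out.one_lt] at h4

end CfsgLib.SquarefreeClass
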