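import Cfsg.Agent.Lib.SquarefreeClass.Central
import Cfsg.Agent.Lib.Fusion.Transfer

/-!
If the square of the smallest prime divisor of the order divides no class size, a Sylow subgroup
for this prime controls its own fusion.
-/

set_option autoImplicit false
set_option linter.unusedSectionVars false
set_option linter.style.haveILetI false

namespace CfsgLib.SquarefreeClass

open CfsgLib.PGroup

variable {G : Type*} [Group G] [Finite G] {p : ℕ} [hp : Fact p.Prime]

/-- The elements of a class inside `P` that are conjugate under `P`. -/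
def Unfused (P : Subgroup G) (x : G) : Prop :=
  ∀ x' ∈ P, IsConj x x' → ∃ u ∈ P, u * x * u⁻¹ = x'

/-- The conjugates of `x` by elements of `P`. -/
noncomputable def pOrb (P : Subgroup G) (x : G) : Set G := (fun u => u * x * u⁻¹) '' (P : Set G)

theorem pOrb_card_mul (P : Subgroup G) (x : G) :
    (pOrb P x).ncard * Nat.card (P ⊓ Subgroup.centralizer ({x} : Set G) : Subgroup G) = Nat.card P := by
  have e : pOrb P x = MulAction.orbit (P.map (ConjAct.toConjAct (G := G)).toMonoidHom) x := by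
    ext z
    constructor
    · rintro ⟨u, hu, rfl⟩
      exact ⟨⟨_, Subgroup.mem_map_of_mem _ hu⟩, ConjAct.toConjAct_smul u x⟩
    · rintro ⟨⟨_, u, hu, rfl⟩, rfl⟩
      exact ⟨u, hu, (ConjAct.toConjAct_smul u x).symm⟩
  rw [e, ← MulAction.index_stabilizer,
    ← Subgroup.card_map_of_injective (K := P)
      (show Function.Injective ((ConjAct.toConjAct (G := G)).toMonoidHom : G →* ConjAct G) from
        (ConjAct.toConjAct (G := G)).injective),
    ← (MulAction.stabilizer (P.map (ConjAct.toConjAct (G := G)).toMonoidHom) x).index_mul_card]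
  congr 1
  refine Nat.card_congr
    { toFun := fun c => ⟨⟨ConjAct.toConjAct (c : G), Subgroup.mem_map_of_mem _ c.2.1⟩, ?_⟩
      invFun := fun s => ⟨ConjAct.ofConjAct ((s : P.map (ConjAct.toConjAct (G := G)).toMonoidHom) : ConjAct G), ?_, ?_⟩
      left_inv := fun c => rfl
      right_inv := fun s => rfl }
  · rw [MulAction.mem_stabilizer_iff, Subgroup.smul_def, ConjAct.smul_def]
    simp only [ConjAct.ofConjAct_toConjAct]
    rw [mul_inv_eq_iff_eq_mul]
    exact Subgroup.mem_centralizer_singleton_iff.1 c.2.2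
  · obtain ⟨u, hu, he⟩ := (s : P.map (ConjAct.toConjAct (G := G)).toMonoidHom).2
    rw [← he]; exact hu
  · have := s.2
    rw [MulAction.mem_stabilizer_iff, Subgroup.smul_def, ConjAct.smul_def, mul_inv_eq_iff_eq_mul]
      at this
    exact Subgroup.mem_centralizer_singleton_iff.2 this

theorem prime_le_pOrb (P : Sylow p G) {x : G}
    (hx : x ∉ Subgroup.centralizer ((P : Subgroup G) : Set G)) :
    p ≤ (pOrb (P : Subgroup G) x).ncard := by
  obtain ⟨a, ha⟩ := P.2.exists_card_eq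
  obtain ⟨k, -, hk⟩ := (Nat.dvd_prime_pow hp.out).1
    (ha ▸ Dvd.intro _ (pOrb_card_mul (P : Subgroup G) x))
  rcases Nat.eq_zero_or_pos k with rfl | hk0
  · exfalso
    rw [pow_zero, Set.ncard_eq_one] at hk
    obtain ⟨z, hz⟩ := hk
    refine hx fun u hu => ?_
    have h1 : u * x * u⁻¹ ∈ ({z} : Set G) := hz ▸ ⟨u, hu, rfl⟩
    have h2 : x ∈ ({z} : Set G) := hz ▸ ⟨1, one_mem _, by simp⟩
    rw [Set.mem_singleton_iff] at h1 h2
    rw [← mul_inv_eq_iff_eq_mul, h1, h2]
  · rw [hk]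
    exact Nat.le_self_pow hk0.ne' p

/-- A finite set stable under conjugation by a `p`-regular element moving one of its members is
big. -/
theorem lt_ncard_of_moved (hmin : ∀ r, r.Prime → r ∣ Nat.card G → p ≤ r) {k x : G}
    (hk : ¬ p ∣ orderOf k) (hx : k * x * k⁻¹ ≠ x) {A : Set G} (hxA : x ∈ A)
    (hA : ∀ z ∈ A, k * z * k⁻¹ ∈ A) : p + 1 ≤ A.ncard := by
  set σ : G → G := fun z => k * z * k⁻¹
  have hit : ∀ i z, σ^[i] z = k ^ i * z * (k ^ i)⁻¹ := by
    intro i
    induction i with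
    | zero => simp
    | succ i ih => intro z; rw [Function.iterate_succ_apply', ih]; simp [σ, pow_succ', mul_assoc]
  set d := Function.minimalPeriod σ x
  have hper : Function.IsPeriodicPt σ (orderOf k) x := by
    show σ^[orderOf k] x = x
    rw [hit, pow_orderOf_eq_one]; simp
  have hd : d ∣ orderOf k := hper.minimalPeriod_dvd
  have hd1 : d ≠ 1 := fun h1 => hx (Function.minimalPeriod_eq_one_iff_isFixedPt.1 h1)
  have hdp : p + 1 ≤ d := by
    have hd0 : d ≠ 0 := fun h0 => by rw [h0, zero_dvd_iff] at hd; exact (orderOf_pos k).ne' hd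
    have h1 := hmin d.minFac (Nat.minFac_prime hd1)
      ((d.minFac_dvd.trans hd).trans (_root_.orderOf_dvd_natCard k))
    have h2 : d.minFac ≠ p := fun h => hk (h ▸ d.minFac_dvd.trans hd)
    have h3 := Nat.minFac_le (Nat.pos_of_ne_zero hd0)
    omega
  refine hdp.trans ?_
  have hinj : Set.InjOn (fun i => σ^[i] x) (Set.Iio d) := Function.iterate_injOn_Iio_minimalPeriod
  have hmem : ∀ i, σ^[i] x ∈ A := by
    intro i
    induction i with
    | zero => exact hxA
    | succ i ih => rw [Function.iterate_succ_apply']; exact hA _ ih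
  calc d = (Set.Iio d).ncard := by simp [Set.ncard_eq_toFinset_card']
    _ = ((fun i => σ^[i] x) '' Set.Iio d).ncard := (hinj.ncard_image).symm
    _ ≤ A.ncard := Set.ncard_le_ncard (Set.image_subset_iff.2 fun i _ => hmem i)

/-- A class inside `P` that fuses is big. -/
theorem fused_card (P : Sylow p G) (hmin : ∀ r, r.Prime → r ∣ Nat.card G → p ≤ r) {x : G}
    (hx : x ∈ (P : Subgroup G)) (hf : ¬ Unfused (P : Subgroup G) x) :
    p + 1 ≤ {z | z ∈ (P : Subgroup G) ∧ IsConj x z}.ncard := by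
  simp only [Unfused, not_forall, not_exists, not_and] at hf
  obtain ⟨x', hx', hc, hne⟩ := hf
  set A := {z | z ∈ (P : Subgroup G) ∧ IsConj x z}
  have horb : ∀ y, y ∈ A → pOrb (P : Subgroup G) y ⊆ A := by
    rintro y ⟨hy, hyc⟩ _ ⟨u, hu, rfl⟩
    exact ⟨mul_mem (mul_mem hu hy) (inv_mem hu), hyc.trans (isConj_iff.2 ⟨u, rfl⟩)⟩
  have hout : ∀ y y', y' ∉ pOrb (P : Subgroup G) y → y ∈ A → y' ∈ A →
      y ∉ Subgroup.centralizer ((P : Subgroup G) : Set G) → p + 1 ≤ A.ncard := by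
    intro y y' hn hy hy' hyC
    calc p + 1 ≤ (insert y' (pOrb (P : Subgroup G) y)).ncard := by
          rw [Set.ncard_insert_of_notMem hn]
          exact Nat.succ_le_succ (prime_le_pOrb P hyC)
      _ ≤ A.ncard := Set.ncard_le_ncard (Set.insert_subset hy' (horb y hy))
  by_cases hxC : x ∈ Subgroup.centralizer ((P : Subgroup G) : Set G)
  · by_cases hxC' : x' ∈ Subgroup.centralizer ((P : Subgroup G) : Set G)
    · obtain ⟨g, hg⟩ := isConj_iff.1 hc
      obtain ⟨n, hn, hnx⟩ := CfsgLib.Fusion.Transfer.burnside_central P hxC hxC' ⟨g, hg⟩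
      obtain ⟨u, k, he, huk, hu, hk⟩ := CountPElements.exists_decomp (p := p) n
      obtain ⟨huN, hkN⟩ := parts_mem hu hk huk (he ▸ hn)
      have hu' := mem_sylow_of_normalizer P hu huN
      have hkx : k * x * k⁻¹ = x' := by
        rw [← hnx, ← he, huk.eq, mul_inv_rev]
        have := hxC u hu'
        rw [show k * u * x * (u⁻¹ * k⁻¹) = k * (u * x * u⁻¹) * k⁻¹ by group,
          mul_inv_eq_iff_eq_mul.2 this]
      refine lt_ncard_of_moved hmin hk ?_ (⟨hx, IsConj.refl x⟩ : x ∈ A) ?_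
      · rw [hkx]
        exact fun h => hne 1 (one_mem _) (by simp [h])
      · rintro z ⟨hz, hzc⟩
        exact ⟨(Subgroup.mem_normalizer_iff.1 hkN z).1 hz, hzc.trans (isConj_iff.2 ⟨k, rfl⟩)⟩
    · refine hout x' x ?_ ⟨hx', hc⟩ ⟨hx, IsConj.refl x⟩ hxC'
      rintro ⟨u, hu, hux⟩
      refine hne u⁻¹ (inv_mem hu) ?_
      rw [← hux]; group
  · refine hout x x' ?_ ⟨hx, IsConj.refl x⟩ ⟨hx', hc⟩ hxC
    rintro ⟨u, hu, hux⟩
    exact hne u hu hux

/-- A regular element of the normalizer fixes the unfused elements. -/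
theorem commute_of_unfused (P : Sylow p G) {a : ℕ} (ha : Nat.card (P : Subgroup G) = p ^ a)
    (hpos : 0 < a) (hmin : ∀ r, r.Prime → r ∣ Nat.card G → p ≤ r)
    (h : ∀ g : G, ¬ p ^ 2 ∣ (Subgroup.centralizer ({g} : Set G)).index)
    {x : G} (hx : x ∈ (P : Subgroup G)) (hu : Unfused (P : Subgroup G) x) {k : G}
    (hkN : k ∈ Subgroup.normalizer ((P : Subgroup G) : Set G)) (hk : ¬ p ∣ orderOf k) :
    k * x * k⁻¹ = x := by
  by_contra hne
  have hsub : {z | z ∈ (P : Subgroup G) ∧ IsConj x z} ⊆ pOrb (P : Subgroup G) x := by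
    rintro z ⟨hz, hzc⟩
    obtain ⟨u, hu', he⟩ := hu z hz hzc
    exact ⟨u, hu', he⟩
  have hbig : p + 1 ≤ (pOrb (P : Subgroup G) x).ncard := by
    refine (lt_ncard_of_moved hmin hk hne (A := {z | z ∈ (P : Subgroup G) ∧ IsConj x z})
      ⟨hx, IsConj.refl x⟩ ?_).trans (Set.ncard_le_ncard hsub)
    rintro z ⟨hz, hzc⟩
    exact ⟨(Subgroup.mem_normalizer_iff.1 hkN z).1 hz, hzc.trans (isConj_iff.2 ⟨k, rfl⟩)⟩
  -- an extremal conjugate
  obtain ⟨R, hR⟩ := Sylow.exists_subgroup_card_pow_prime p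
    (pow_dvd_card_centralizer x (ha ▸ (P : Subgroup G).card_subgroup_dvd_card) (h x))
  set R' := R.map (Subgroup.centralizer ({x} : Set G)).subtype
  have hR' : Nat.card R' = p ^ (a - 1) := by
    rw [Subgroup.card_map_of_injective (Subgroup.subtype_injective _), hR]
  have hR'x : ∀ r ∈ R', Commute r x := by
    rintro r ⟨s, -, rfl⟩
    exact Subgroup.mem_centralizer_singleton_iff.1 s.2
  obtain ⟨j, hj⟩ := Basic.exists_orderOf_eq_pow_of_mem P.2 hx
  have hJ : IsPGroup p (Subgroup.zpowers x ⊔ R' : Subgroup G) := by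
    refine (Basic.isPGroup_zpowers (dvd_of_eq hj)).to_sup_of_normal_right' (IsPGroup.of_card hR')
      (Subgroup.zpowers_le.2 (centralizer_le_normalizer' _ fun r hr => hR'x r hr))
  obtain ⟨S, hS⟩ := hJ.exists_le_sylow
  obtain ⟨g, hg⟩ := MulAction.exists_smul_eq G S P
  have hmove : ∀ r ∈ (S : Subgroup G), g * r * g⁻¹ ∈ (P : Subgroup G) := by
    intro r hr
    rw [← hg]
    exact ⟨r, hr, rfl⟩
  have hy : g * x * g⁻¹ ∈ (P : Subgroup G) :=
    hmove x (hS (le_sup_left (b := R') (Subgroup.mem_zpowers x)))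
  obtain ⟨u, hu', hue⟩ := hu _ hy (isConj_iff.2 ⟨g, rfl⟩)
  have hC : p ^ (a - 1) ≤
      Nat.card ((P : Subgroup G) ⊓ Subgroup.centralizer ({x} : Set G) : Subgroup G) := by
    rw [← hR', ← Subgroup.card_map_of_injective (K := R')
      (show Function.Injective ((MulAut.conj (u⁻¹ * g)).toMonoidHom : G →* G) from
        (MulAut.conj (u⁻¹ * g)).injective)]
    refine Subgroup.card_le_of_le ?_
    rintro _ ⟨r, hr, rfl⟩
    have h1 : g * r * g⁻¹ ∈ (P : Subgroup G) := hmove r (hS (le_sup_right (a := Subgroup.zpowers x) hr))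
    have hconj : (MulAut.conj (u⁻¹ * g)) x = x := by
      rw [MulAut.conj_apply, show u⁻¹ * g * x * (u⁻¹ * g)⁻¹ = u⁻¹ * (g * x * g⁻¹) * u by group, ← hue]
      group
    refine ⟨?_, Subgroup.mem_centralizer_singleton_iff.2 ?_⟩
    · show (MulAut.conj (u⁻¹ * g)) r ∈ (P : Subgroup G)
      rw [MulAut.conj_apply, show u⁻¹ * g * r * (u⁻¹ * g)⁻¹ = u⁻¹ * (g * r * g⁻¹) * u by group]
      exact mul_mem (mul_mem (inv_mem hu') h1) hu'
    · show (MulAut.conj (u⁻¹ * g)) r * x = x * (MulAut.conj (u⁻¹ * g)) r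
      conv_lhs => rw [← hconj]
      conv_rhs => rw [← hconj]
      rw [← map_mul, ← map_mul, (hR'x r hr).eq]
  have h2 := pOrb_card_mul (P : Subgroup G) x
  rw [ha, show p ^ a = p * p ^ (a - 1) by rw [← pow_succ', Nat.sub_add_cancel hpos]] at h2
  have h3 : (p + 1) * p ^ (a - 1) ≤ p * p ^ (a - 1) :=
    (Nat.mul_le_mul hbig hC).trans h2.le
  have := Nat.le_of_mul_le_mul_right h3 (pow_pos hp.out.pos _)
  omega

/-- A regular element of the normalizer that moves an element of `P` has small fixed subgroup. -/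
theorem card_fixed_le (P : Sylow p G) {a : ℕ} (ha : Nat.card (P : Subgroup G) = p ^ a)
    (hmin : ∀ r, r.Prime → r ∣ Nat.card G → p ≤ r) {k : G}
    (hkN : k ∈ Subgroup.normalizer ((P : Subgroup G) : Set G)) (hk : ¬ p ∣ orderOf k)
    (hkC : k ∉ Subgroup.centralizer ((P : Subgroup G) : Set G)) :
    Nat.card ((P : Subgroup G) ⊓ Subgroup.centralizer ({k} : Set G) : Subgroup G) * p ^ 2 ≤ p ^ a := by
  set Q := (P : Subgroup G) ⊓ Subgroup.centralizer ({k} : Set G) with hQ
  by_contra hlt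
  rw [not_le] at hlt
  set i := (Q.subgroupOf (P : Subgroup G)).index
  have hi : Nat.card Q * i = p ^ a := by
    rw [← ha, ← Nat.card_congr (Subgroup.subgroupOfEquivOfLe (inf_le_left : Q ≤ P)).toEquiv]
    exact Subgroup.card_mul_index _
  have hilt : i < p ^ 2 := Nat.lt_of_mul_lt_mul_left (a := Nat.card Q) (hi ▸ hlt)
  have hile : i ≤ p := by
    obtain ⟨j, -, hj⟩ := (Nat.dvd_prime_pow hp.out).1 (Dvd.intro_left _ hi)
    rw [hj] at hilt ⊢
    have := (Nat.pow_lt_pow_iff_right hp.out.one_lt).1 hilt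
    calc p ^ j ≤ p ^ 1 := Nat.pow_le_pow_right hp.out.pos (by omega)
      _ = p := pow_one p
  obtain ⟨u, hu, huk⟩ : ∃ u ∈ (P : Subgroup G), ¬ u * k = k * u := by
    by_contra hc
    exact hkC fun u hu => not_not.1 fun hn => hc ⟨u, hu, hn⟩
  let f : Fin (p + 1) → (P : Subgroup G) := fun j =>
    ⟨k ^ (j : ℕ) * u * (k ^ (j : ℕ))⁻¹, (Subgroup.mem_normalizer_iff.1 (pow_mem hkN _) u).1 hu⟩
  have hnot : ¬ Function.Injective (fun j =>
      ((f j : (P : Subgroup G)) : (P : Subgroup G) ⧸ Q.subgroupOf (P : Subgroup G))) := fun hinj => by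
    have := Nat.card_le_card_of_injective _ hinj
    rw [Nat.card_fin] at this
    change p + 1 ≤ i at this
    omega
  simp only [Function.Injective, not_forall] at hnot
  obtain ⟨j₁, j₂, he, hne⟩ := hnot
  wlog hlt' : (j₁ : ℕ) < (j₂ : ℕ) generalizing j₁ j₂
  · exact this j₂ j₁ he.symm (Ne.symm hne)
      (lt_of_le_of_ne (not_lt.1 hlt') (fun h => hne (Fin.ext h.symm)))
  rw [QuotientGroup.eq] at he
  have hq := (Subgroup.mem_subgroupOf.1 he).2
  set r := (j₂ : ℕ) - (j₁ : ℕ)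
  have hr0 : 0 < r := by omega
  have hrp : r ≤ p := by have := j₂.isLt; omega
  -- the difference is fixed by `k`, hence so is `u⁻¹ (k^r u k^{-r})`
  have hq' : Commute (u⁻¹ * (k ^ r * u * (k ^ r)⁻¹)) k := by
    have h1 : Commute (((f j₁)⁻¹ * f j₂ : (P : Subgroup G)) : G) k :=
      Subgroup.mem_centralizer_singleton_iff.1 hq
    have h2 : ((((f j₁)⁻¹ * f j₂ : (P : Subgroup G))) : G) =
        (MulAut.conj (k ^ (j₁ : ℕ))) (u⁻¹ * (k ^ r * u * (k ^ r)⁻¹)) := by
      simp only [f, Subgroup.coe_mul, Subgroup.coe_inv, MulAut.conj_apply]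
      rw [show (j₂ : ℕ) = (j₁ : ℕ) + r by omega, pow_add]
      group
    rw [h2] at h1
    have h3 := h1.map (MulAut.conj (k ^ (j₁ : ℕ))).symm
    rw [MulEquiv.symm_apply_apply, MulAut.conj_symm_apply] at h3
    rwa [show (k ^ (j₁ : ℕ))⁻¹ * k * k ^ (j₁ : ℕ) = k by
      rw [mul_assoc, ((Commute.refl k).pow_right (j₁ : ℕ)).eq, inv_mul_cancel_left]] at h3
  set q := u⁻¹ * (k ^ r * u * (k ^ r)⁻¹) with hqdef
  have hpow : ∀ n : ℕ, (k ^ r) ^ n * u * ((k ^ r) ^ n)⁻¹ = u * q ^ n := by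
    intro n
    induction n with
    | zero => simp
    | succ n ih =>
      have hcq : Commute (k ^ r) (q ^ n) := ((hq'.symm).pow_left r).pow_right n
      rw [pow_succ', show k ^ r * (k ^ r) ^ n * u * (k ^ r * (k ^ r) ^ n)⁻¹ =
        k ^ r * ((k ^ r) ^ n * u * ((k ^ r) ^ n)⁻¹) * (k ^ r)⁻¹ by group, ih]
      rw [← mul_assoc, mul_assoc (k ^ r * u), ← hcq.inv_left.eq, ← mul_assoc, pow_succ',
        ← mul_assoc u q, show u * q = k ^ r * u * (k ^ r)⁻¹ by rw [hqdef]; group]
  have hqn : q ^ orderOf k = 1 := by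
    have := hpow (orderOf k)
    rw [pow_right_comm, pow_orderOf_eq_one, one_pow] at this
    simpa using this.symm
  have hqP : q ∈ (P : Subgroup G) :=
    mul_mem (inv_mem hu) ((Subgroup.mem_normalizer_iff.1 (pow_mem hkN _) u).1 hu)
  have hq1 : q = 1 := by
    obtain ⟨j, hj⟩ := Basic.exists_orderOf_eq_pow_of_mem P.2 hqP
    exact orderOf_eq_one_iff.1 (Nat.eq_one_of_dvd_coprimes
      (Nat.Coprime.pow_left j (hp.out.coprime_iff_not_dvd.2 hk)) (dvd_of_eq hj)
      (orderOf_dvd_of_pow_eq_one hqn))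
  have hcop : Nat.Coprime r (orderOf k) := by
    refine Nat.coprime_of_dvd fun s hs hsr hsk => ?_
    have h1 := hmin s hs (hsk.trans (_root_.orderOf_dvd_natCard k))
    have h2 := Nat.le_of_dvd hr0 hsr
    exact hk ((show s = p by omega) ▸ hsk)
  obtain ⟨e, he'⟩ := exists_pow_eq_self_of_coprime hcop
  have hcr : Commute u (k ^ r) := by
    rw [hqdef, inv_mul_eq_one] at hq1
    exact (mul_inv_eq_iff_eq_mul.1 hq1.symm).symm
  exact huk (he' ▸ hcr.pow_right e : Commute u k).eq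

end CfsgLib.SquarefreeClass
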