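import Cfsg.Agent.Lib.PGroup.CountPElements
import Cfsg.Agent.Lib.PGroup.FrobeniusCount
import Mathlib

/-!
Counting the `p`-regular elements commuting with a `p`-element, when the square of `p` divides
no class size.
-/

set_option autoImplicit false
set_option linter.unusedSectionVars false
set_option linter.style.haveILetI false

namespace CfsgLib.SquarefreeClass

open CfsgLib.PGroup

variable {G : Type*} [Group G] [Finite G] {p : ℕ}

/-- The order of `x` is a power of `p`. -/
def IsPEl (p : ℕ) (x : G) : Prop := ∃ k, orderOf x = p ^ k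

/-- The number of `p`-regular elements commuting with `y`. -/
noncomputable def regNum (p : ℕ) (y : G) : ℕ :=
  Nat.card {w : G // ¬ p ∣ orderOf w ∧ Commute y w}

theorem orderOf_conj (g x : G) : orderOf (g * x * g⁻¹) = orderOf x :=
  (orderOf_injective (MulAut.conj g).toMonoidHom (MulAut.conj g).injective x)

theorem card_centralizer_conj (g y : G) :
    Nat.card (Subgroup.centralizer ({g * y * g⁻¹} : Set G)) =
      Nat.card (Subgroup.centralizer ({y} : Set G)) := by
  refine (Nat.card_congr (Equiv.subtypeEquiv (MulAut.conj g).toEquiv fun w => ?_)).symm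
  rw [Subgroup.mem_centralizer_singleton_iff, Subgroup.mem_centralizer_singleton_iff]
  simp only [MulEquiv.toEquiv_eq_coe, EquivLike.coe_coe]
  rw [← MulAut.conj_apply, ← map_mul, ← map_mul, (MulAut.conj g).injective.eq_iff]

theorem regNum_conj (p : ℕ) (g y : G) : regNum p (g * y * g⁻¹) = regNum p y := by
  refine (Nat.card_congr (Equiv.subtypeEquiv (MulAut.conj g).toEquiv fun w => ?_)).symm
  simp only [MulEquiv.toEquiv_eq_coe, EquivLike.coe_coe]
  rw [Commute, SemiconjBy, Commute, SemiconjBy, ← MulAut.conj_apply, ← map_mul, ← map_mul,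
    (MulAut.conj g).injective.eq_iff, MulAut.conj_apply, orderOf_conj]

theorem regNum_pos [hp : Fact p.Prime] (y : G) : 0 < regNum p y :=
  Nat.card_pos_iff.2 ⟨⟨⟨1, by rw [orderOf_one]; exact hp.out.not_dvd_one, Commute.one_right y⟩⟩,
    inferInstance⟩

/-- The decomposition into `p`-parts and `p'`-parts, counted. -/
theorem sum_regNum [Fact p.Prime] [Fintype G] [DecidablePred (IsPEl p : G → Prop)] :
    ∑ y ∈ Finset.univ.filter (IsPEl p : G → Prop), regNum p y = Nat.card G := by
  classical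
  have e : (Σ y : {y : G // IsPEl p y}, {w : G // ¬ p ∣ orderOf w ∧ Commute (y : G) w}) ≃ G :=
    Equiv.ofBijective (fun s => (s.1 : G) * (s.2 : G)) ⟨?_, ?_⟩
  · rw [← Nat.card_congr e, Nat.card_sigma]
    exact Finset.sum_subtype _ (fun y => by simp) (fun y => regNum p y)
  · rintro ⟨⟨x, hx⟩, ⟨w, hw⟩⟩ ⟨⟨x', hx'⟩, ⟨w', hw'⟩⟩ he
    simp only at he
    obtain rfl := CountPElements.decomp_left_unique hw.2 hw'.2 hx hx' hw.1 hw'.1 he
    obtain rfl := mul_left_cancel he
    rfl
  · intro g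
    obtain ⟨x, w, he, hc, hx, hw⟩ := CountPElements.exists_decomp (p := p) g
    exact ⟨⟨⟨x, hx⟩, ⟨w, hw, hc⟩⟩, he⟩

/-- The square of `p` divides no class size: centralizers are nearly as big as possible. -/
theorem pow_dvd_card_centralizer [hp : Fact p.Prime] (g : G) {a : ℕ} (ha : p ^ a ∣ Nat.card G)
    (hg : ¬ p ^ 2 ∣ (Subgroup.centralizer ({g} : Set G)).index) :
    p ^ (a - 1) ∣ Nat.card (Subgroup.centralizer ({g} : Set G)) := by
  rw [← (Subgroup.centralizer ({g} : Set G)).card_mul_index] at ha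
  by_cases hd : p ∣ (Subgroup.centralizer ({g} : Set G)).index
  · obtain ⟨i, hi⟩ := hd
    have hi' : ¬ p ∣ i := fun h => hg (by rw [hi, sq]; exact Nat.mul_dvd_mul_left p h)
    rcases Nat.eq_zero_or_pos a with rfl | hpos
    · simp
    rw [hi, ← mul_assoc, show p ^ a = p ^ (a - 1) * p by rw [← pow_succ, Nat.sub_add_cancel hpos],
      mul_comm _ p, mul_comm _ p, mul_assoc] at ha
    exact (Nat.Coprime.pow_left _ (hp.out.coprime_iff_not_dvd.2 hi')).dvd_of_dvd_mul_right
      (Nat.dvd_of_mul_dvd_mul_left hp.out.pos ha)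
  · exact (pow_dvd_pow p (Nat.sub_le a 1)).trans
      ((Nat.Coprime.pow_left _ (hp.out.coprime_iff_not_dvd.2 hd)).dvd_of_dvd_mul_right ha)

/-- Few `p`-regular elements commute with a given `p`-element. -/
theorem regNum_mul_le [Fact p.Prime] {a : ℕ} (ha : p ^ a ∣ Nat.card G)
    (h : ∀ g : G, ¬ p ^ 2 ∣ (Subgroup.centralizer ({g} : Set G)).index) {y : G} (hy : IsPEl p y) :
    regNum p y * p ^ (a - 1) ≤ Nat.card (Subgroup.centralizer ({y} : Set G)) := by
  classical
  haveI := Fintype.ofFinite G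
  have hQ : ∀ w : G, ∃ K : Subgroup (Subgroup.centralizer ({y * w} : Set G)),
      Nat.card K = p ^ (a - 1) := fun w =>
    Sylow.exists_subgroup_card_pow_prime p (pow_dvd_card_centralizer (y * w) ha (h _))
  choose Q hQ using hQ
  have hpar : ∀ (s : Σ w : {w : G // ¬ p ∣ orderOf w ∧ Commute y w}, Q (w : G)),
      IsPEl p ((s.2 : Subgroup.centralizer ({y * (s.1 : G)} : Set G)) : G) ∧
        Commute ((s.2 : Subgroup.centralizer ({y * (s.1 : G)} : Set G)) : G) y ∧
        Commute ((s.2 : Subgroup.centralizer ({y * (s.1 : G)} : Set G)) : G) (s.1 : G) := by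
    rintro ⟨⟨w, hw, hc⟩, ⟨⟨x, hx⟩, hxQ⟩⟩
    have hx' : Commute x (y * w) := Subgroup.mem_centralizer_singleton_iff.1 hx
    refine ⟨?_, ?_, ?_⟩
    · obtain ⟨k, hk⟩ := IsPGroup.iff_orderOf.1 (IsPGroup.of_card (hQ w)) ⟨⟨x, hx⟩, hxQ⟩
      exact ⟨k, by rwa [← Subgroup.orderOf_coe, ← Subgroup.orderOf_coe] at hk⟩
    -- `y` and `w` are powers of `y * w`
    all_goals
      obtain ⟨k, hk⟩ := hy
      have hy1 : y ^ p ^ k = 1 := hk ▸ pow_orderOf_eq_one y
      have hcop : Nat.Coprime (p ^ k) (orderOf w) :=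
        Nat.Coprime.pow_left _ ((Fact.out : p.Prime).coprime_iff_not_dvd.2 hw)
      obtain ⟨e, h1, h0⟩ := Nat.chineseRemainder hcop 1 0
      have he : (y * w) ^ e = y := by
        rw [hc.mul_pow, orderOf_dvd_iff_pow_eq_one.1 (Nat.modEq_zero_iff_dvd.1 h0), mul_one,
          pow_eq_pow_mod e hy1, show e % p ^ k = 1 % p ^ k from h1, ← pow_eq_pow_mod 1 hy1, pow_one]
    · exact (he ▸ hx'.pow_right e : Commute x y)
    · have := (he ▸ hx'.pow_right e : Commute x y).inv_right.mul_right hx'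
      rwa [inv_mul_cancel_left] at this
  refine le_trans (le_of_eq ?_) (Nat.card_le_card_of_injective
    (α := Σ w : {w : G // ¬ p ∣ orderOf w ∧ Commute y w}, Q (w : G))
    (fun s => (⟨((s.2 : Subgroup.centralizer ({y * (s.1 : G)} : Set G)) : G) * (s.1 : G),
      Subgroup.mem_centralizer_singleton_iff.2
        (((hpar s).2.1.symm.mul_right s.1.2.2).symm.eq)⟩ :
      Subgroup.centralizer ({y} : Set G))) ?_)
  · simp only [Nat.card_sigma, hQ]
    rw [Finset.sum_const,
      Finset.card_univ, smul_eq_mul, regNum, Nat.card_eq_fintype_card]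
  · intro s t he
    have hs := hpar s
    have ht := hpar t
    obtain ⟨⟨w, hw⟩, ⟨⟨x, hx⟩, hxQ⟩⟩ := s
    obtain ⟨⟨w', hw'⟩, ⟨⟨x', hx'⟩, hxQ'⟩⟩ := t
    have he' : x * w = x' * w' := congrArg Subtype.val he
    obtain rfl := CountPElements.decomp_left_unique hs.2.2 ht.2.2 hs.1 ht.1 hw.1 hw'.1 he'
    obtain rfl := mul_left_cancel he'
    rfl

end CfsgLib.SquarefreeClass
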