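import Cfsg.Agent.Lib.SquarefreeClass.Structure

/-!
A nilpotent derived group of square-free order is cyclic.
-/

set_option autoImplicit false
set_option linter.style.haveILetI false

namespace CfsgLib.SquarefreeClass

/-- A finite nilpotent group of square-free order is cyclic. -/
theorem isCyclic_of_squarefree {A : Type*} [Group A] [Finite A] [Group.IsNilpotent A]
    (hs : Squarefree (Nat.card A)) : IsCyclic A := by
  suffices hd : ∀ (s : Finset ℕ), (∀ r ∈ s, r.Prime ∧ r ∣ Nat.card A) →
      ∃ g : A, orderOf g = ∏ r ∈ s, r by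
    obtain ⟨g, hg⟩ := hd (Nat.card A).primeFactors fun r hr =>
      ⟨Nat.prime_of_mem_primeFactors hr, Nat.dvd_of_mem_primeFactors hr⟩
    exact isCyclic_of_orderOf_eq_card g (by rw [hg, Nat.prod_primeFactors_of_squarefree hs])
  intro s
  induction s using Finset.induction_on with
  | empty => intro _; exact ⟨1, by simp⟩
  | @insert r s hrs ih =>
    intro hall
    obtain ⟨g, hg⟩ := ih fun t ht => hall t (Finset.mem_insert_of_mem ht)
    obtain ⟨hr, hrd⟩ := hall r (Finset.mem_insert_self r s)
    haveI := Fact.mk hr
    obtain ⟨z, hz⟩ := exists_prime_orderOf_dvd_card' (G := A) r hrd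
    have hcop : (orderOf z).Coprime (orderOf g) := by
      rw [hz, hg, Nat.coprime_prod_right_iff]
      exact fun t ht => (Nat.coprime_primes hr (hall t (Finset.mem_insert_of_mem ht)).1).2
        fun he => hrs (he ▸ ht)
    refine ⟨z * g, ?_⟩
    rw [(CfsgLib.OddOrder.Basic.commute_of_coprime_orderOf hcop).orderOf_mul_eq_mul_orderOf_of_coprime
      hcop, hz, hg, Finset.prod_insert hrs]

end CfsgLib.SquarefreeClass
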