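import Cfsg.Agent.Lib.SquarefreeClass.Super
import Cfsg.Agent.Lib.SquarefreeClass.Central

/-!
`p`-groups of breadth one, and extensions of them by a cyclic `p'`-group.
-/

set_option autoImplicit false
set_option linter.unusedSectionVars false
set_option linter.style.haveILetI false

namespace CfsgLib.SquarefreeClass

open scoped commutatorElement

theorem commute_of_commutator {G : Type*} [Group G] {x y : G} (h : ⁅x, y⁆ = 1) : Commute x y :=
  commutatorElement_eq_one_iff_mul_comm.1 h

/-- A `p`-group with centralizers of index at most `p` has a central derived group of order at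
most `p`. -/
theorem breadth_one {R : Type*} [Group R] [Finite R] {p : ℕ} [hp : Fact p.Prime]
    (hR : IsPGroup p R) (h : ∀ x : R, (Subgroup.centralizer ({x} : Set R)).index ∣ p) :
    _root_.commutator R ≤ Subgroup.center R ∧ Nat.card (_root_.commutator R) ∣ p := by
  have hnorm : ∀ x : R, _root_.commutator R ≤ Subgroup.centralizer ({x} : Set R) := by
    intro x
    rcases (Nat.dvd_prime hp.out).1 (h x) with h1 | h1
    · rw [Subgroup.index_eq_one.1 h1]; exact le_top
    · haveI : (Subgroup.centralizer ({x} : Set R)).Normal := by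
        refine Subgroup.normal_of_index_eq_minFac_card ?_
        obtain ⟨n, hn⟩ := hR.exists_card_eq
        have hd := (Subgroup.centralizer ({x} : Set R)).index_dvd_card
        rw [h1, hn] at hd ⊢
        have hn0 : n ≠ 0 := fun h0 => hp.out.ne_one (Nat.dvd_one.1 (by rwa [h0, pow_zero] at hd))
        exact (hp.out.pow_minFac hn0).symm
      haveI : IsCyclic (R ⧸ Subgroup.centralizer ({x} : Set R)) :=
        isCyclic_of_prime_card (p := p) (by rw [← Subgroup.index_eq_card, h1])
      exact Subgroup.Normal.quotient_commutative_iff_commutator_le.1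
        ⟨⟨fun a b => (IsCyclic.commGroup).mul_comm a b⟩⟩
  have hcen : _root_.commutator R ≤ Subgroup.center R := fun z hz =>
    Subgroup.mem_center_iff.2 fun g => (Subgroup.mem_centralizer_singleton_iff.1 (hnorm g hz)).symm
  refine ⟨hcen, ?_⟩
  have hC : ∀ x y g : R, g * ⁅x, y⁆ = ⁅x, y⁆ * g := fun x y =>
    Subgroup.mem_center_iff.1 (hcen (Subgroup.commutator_mem_commutator
      (Subgroup.mem_top x) (Subgroup.mem_top y)))
  have hlin : ∀ x y z : R, ⁅x, y * z⁆ = ⁅x, y⁆ * ⁅x, z⁆ := by
    intro x y z
    have : ⁅x, y * z⁆ = ⁅x, y⁆ * (y * ⁅x, z⁆ * y⁻¹) := by simp only [commutatorElement_def]; group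
    rw [this, hC x z y, mul_inv_cancel_right]
  let φ : R → (R →* R) := fun x => MonoidHom.mk' (fun y => ⁅x, y⁆) (hlin x)
  have hφ : ∀ x, Nat.card (φ x).range ∣ p := fun x => by
    rw [← Subgroup.index_ker]
    refine dvd_trans (dvd_of_eq (congrArg _ ?_)) (h x)
    ext y
    rw [MonoidHom.mem_ker, Subgroup.mem_centralizer_singleton_iff]
    show ⁅x, y⁆ = 1 ↔ _
    rw [commutatorElement_eq_one_iff_mul_comm]
    exact eq_comm
  -- the range through a nontrivial element
  have hrange : ∀ x a, a ∈ (φ x).range → a ≠ 1 → (φ x).range = Subgroup.zpowers a := by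
    intro x a ha ha1
    symm
    refine Subgroup.eq_of_le_of_card_ge (Subgroup.zpowers_le.2 ha) ?_
    rcases (Nat.dvd_prime hp.out).1 (hφ x) with h1 | h1
    · rw [Subgroup.eq_bot_of_card_eq _ h1, Subgroup.mem_bot] at ha
      exact absurd ha ha1
    · rw [h1, Nat.card_zpowers]
      refine le_of_eq ((Nat.dvd_prime hp.out).1 ?_ |>.resolve_left fun h2 => ha1
        (orderOf_eq_one_iff.1 h2)).symm
      rw [← h1, ← Subgroup.orderOf_mk a ha]
      exact _root_.orderOf_dvd_natCard _
  by_cases hab : ∀ x y : R, ⁅x, y⁆ = 1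
  · rw [show _root_.commutator R = ⊥ from le_bot_iff.1 (by
      rw [_root_.commutator_def, Subgroup.commutator_le]
      intro x _ y _; rw [hab]; exact one_mem _), Subgroup.card_bot]
    exact one_dvd p
  simp only [not_forall] at hab
  obtain ⟨x, y, hxy⟩ := hab
  set a := ⁅x, y⁆
  have hy : (φ y).range = Subgroup.zpowers a := by
    rw [hrange y a⁻¹ ⟨x, (commutatorElement_inv x y).symm⟩ (inv_ne_one.2 hxy), Subgroup.zpowers_inv]
  have hx : (φ x).range = Subgroup.zpowers a := hrange x a ⟨y, rfl⟩ hxy
  -- the commutators of an element not commuting with `x` or `y`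
  have hone : ∀ b u : R, (φ b).range = Subgroup.zpowers a → ⁅b, u⁆ ≠ 1 →
      (φ u).range = Subgroup.zpowers a := by
    intro b u hb hbu
    have h1 : ⁅b, u⁆⁻¹ ∈ Subgroup.zpowers a := inv_mem (hb ▸ ⟨u, rfl⟩)
    rw [hrange u ⁅b, u⁆⁻¹ ⟨b, (commutatorElement_inv b u).symm⟩ (inv_ne_one.2 hbu), ← hb,
      ← hrange b ⁅b, u⁆⁻¹ (hb ▸ h1) (inv_ne_one.2 hbu)]
  have hle : _root_.commutator R ≤ Subgroup.zpowers a := by
    rw [_root_.commutator_def, Subgroup.commutator_le]
    intro u _ v _
    by_cases h1 : ⁅x, u⁆ = 1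
    · by_cases h2 : ⁅y, u⁆ = 1
      · by_cases h3 : ⁅x, v⁆ = 1
        · by_cases h4 : ⁅y, v⁆ = 1
          · have e1 : ⁅x * u, y⁆ = a := by
              have : ⁅x * u, y⁆ = x * ⁅u, y⁆ * x⁻¹ * ⁅x, y⁆ := by
                simp only [commutatorElement_def]; group
              rw [this, ← commutatorElement_inv y u, h2, inv_one, mul_one, mul_inv_cancel, one_mul]
            have e2 : ⁅x * u, v⁆ = ⁅u, v⁆ := by
              have : ⁅x * u, v⁆ = x * ⁅u, v⁆ * x⁻¹ * ⁅x, v⁆ := by
                simp only [commutatorElement_def]; group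
              rw [this, h3, mul_one, hC u v x, mul_inv_cancel_right]
            rw [← e2, ← hrange (x * u) a ⟨y, e1⟩ hxy]
            exact ⟨v, rfl⟩
          · rw [← commutatorElement_inv v u]
            exact inv_mem (hone y v hy h4 ▸ ⟨u, rfl⟩)
        · rw [← commutatorElement_inv v u]
          exact inv_mem (hone x v hx h3 ▸ ⟨u, rfl⟩)
      · exact hone y u hy h2 ▸ ⟨v, rfl⟩
    · exact hone x u hx h1 ▸ ⟨v, rfl⟩
  exact (Subgroup.card_dvd_of_le hle).trans (hx ▸ hφ x)

variable {G : Type*} [Group G] [Finite G] {p : ℕ} [hp : Fact p.Prime]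

/-- In a normal `p`-subgroup the centralizers have index at most `p`. -/
theorem relIndex_dvd_prime {S : Subgroup G} [S.Normal] (hS : IsPGroup p S) {g : G}
    (hg : ¬ p ^ 2 ∣ (Subgroup.centralizer ({g} : Set G)).index) :
    (Subgroup.centralizer ({g} : Set G)).relIndex S ∣ p := by
  obtain ⟨n, hn⟩ := hS.exists_card_eq
  obtain ⟨k, -, hk⟩ := (Nat.dvd_prime_pow hp.out).1
    (hn ▸ Subgroup.relIndex_dvd_card (Subgroup.centralizer ({g} : Set G)) S)
  rw [hk]
  have h1 := CfsgLib.Coprime.ClassSizeGraph.relIndex_dvd_index_of_normal'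
    (Subgroup.centralizer ({g} : Set G)) S
  rcases Nat.lt_or_ge k 2 with hk2 | hk2
  · calc p ^ k ∣ p ^ 1 := pow_dvd_pow p (by omega)
      _ = p := pow_one p
  · exact absurd ((pow_dvd_pow p hk2).trans (hk ▸ h1)) hg

theorem breadth_one_normal {S : Subgroup G} [S.Normal] (hS : IsPGroup p S)
    (h : ∀ g ∈ S, ¬ p ^ 2 ∣ (Subgroup.centralizer ({g} : Set G)).index) :
    ⁅S, S⁆ ≤ Subgroup.centralizer (S : Set G) ∧ Nat.card (⁅S, S⁆ : Subgroup G) ∣ p := by
  have hb := breadth_one hS fun x => by
    refine dvd_trans (dvd_of_eq ?_) (relIndex_dvd_prime hS (h x x.2))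
    show _ = ((Subgroup.centralizer ({(x : G)} : Set G)).subgroupOf S).index
    congr 1
    ext y
    rw [Subgroup.mem_centralizer_singleton_iff, Subgroup.mem_subgroupOf,
      Subgroup.mem_centralizer_singleton_iff, ← Subgroup.coe_mul, ← Subgroup.coe_mul, Subtype.coe_inj]
  rw [← Subgroup.map_subtype_commutator]
  refine ⟨?_, by rw [Subgroup.card_map_of_injective S.subtype_injective]; exact hb.2⟩
  rintro _ ⟨z, hz, rfl⟩ s hs
  exact congrArg Subtype.val (Subgroup.mem_center_iff.1 (hb.1 hz) ⟨s, hs⟩)

/-- A group generated modulo `K` by an abelian group and an element centralising it. -/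
theorem commutator_le_of_gen {S K : Subgroup G} [K.Normal] {a : G}
    (hgen : S ⊔ Subgroup.zpowers a = ⊤) (hS : ⁅S, S⁆ ≤ K) (ha : ∀ s ∈ S, ⁅a, s⁆ ∈ K) :
    _root_.commutator G ≤ K := by
  set q := QuotientGroup.mk' K
  set B := ((Subgroup.center (G ⧸ K)).comap q)
  have hq : ∀ x y : G, ⁅x, y⁆ ∈ K → Commute (q x) (q y) := fun x y hk => commute_of_commutator (by
    rw [← map_commutatorElement]; exact (QuotientGroup.eq_one_iff _).2 hk)
  have hcen : ∀ x, (∀ s ∈ S, ⁅x, s⁆ ∈ K) → ⁅x, a⁆ ∈ K → x ∈ B := by
    intro x h1 h2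
    have hle : S ⊔ Subgroup.zpowers a ≤ (Subgroup.centralizer ({q x} : Set (G ⧸ K))).comap q :=
      sup_le (fun s hs => Subgroup.mem_centralizer_singleton_iff.2 (hq x s (h1 s hs)).symm.eq)
        (Subgroup.zpowers_le.2 (Subgroup.mem_centralizer_singleton_iff.2 (hq x a h2).symm.eq))
    rw [hgen] at hle
    refine Subgroup.mem_center_iff.2 fun z => ?_
    obtain ⟨g, rfl⟩ := QuotientGroup.mk'_surjective K z
    exact Subgroup.mem_centralizer_singleton_iff.1 (hle (Subgroup.mem_top g))
  have hB : (⊤ : Subgroup G) ≤ B := by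
    rw [← hgen]
    refine sup_le (fun s hs => hcen s (fun t ht => hS (Subgroup.commutator_mem_commutator hs ht)) ?_)
      (Subgroup.zpowers_le.2 (hcen a ha (by rw [commutatorElement_self]; exact one_mem _)))
    rw [← commutatorElement_inv a s]
    exact inv_mem (ha s hs)
  rw [_root_.commutator_def, Subgroup.commutator_le]
  intro x _ y _
  rw [← QuotientGroup.eq_one_iff]
  change q _ = 1
  rw [map_commutatorElement, commutatorElement_eq_one_iff_mul_comm]
  exact (Subgroup.mem_center_iff.1 (hB (Subgroup.mem_top x)) (q y)).symm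

/-- The derived group of a cyclic extension of a normal Sylow `p`-subgroup. -/
theorem card_commutator_cyclic_ext (S : Subgroup G) [S.Normal] (hS : IsPGroup p S) {a : G}
    (ha : ¬ p ∣ orderOf a) (hgen : S ⊔ Subgroup.zpowers a = ⊤)
    (h : ∀ g : G, ¬ p ^ 2 ∣ (Subgroup.centralizer ({g} : Set G)).index) :
    Nat.card (_root_.commutator G) ∣ p := by
  obtain ⟨hScen, hScard⟩ := breadth_one_normal hS fun g _ => h g
  set C := Subgroup.centralizer ({a} : Set G)
  set D := S ⊓ C
  rcases (Nat.dvd_prime hp.out).1 (relIndex_dvd_prime hS (h a)) with h1 | h1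
  · -- `a` centralises `S`
    refine (Subgroup.card_dvd_of_le ?_).trans hScard
    refine commutator_le_of_gen hgen le_rfl fun s hs => ?_
    rw [commutatorElement_eq_one_iff_mul_comm.2
      (Subgroup.mem_centralizer_singleton_iff.1 (Subgroup.relIndex_eq_one.1 h1 hs)).symm]
    exact one_mem _
  · have hDidx : D.relIndex S = p := by
      rw [show D = C ⊓ S from inf_comm _ _, Subgroup.inf_relIndex_right, h1]
    have hDS : D ≤ S := inf_le_left
    have hmaxD : ∀ K : Subgroup G, D ≤ K → K ≤ S → K = D ∨ K = S := by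
      intro K hDK hKS
      have hmul := Subgroup.relIndex_mul_relIndex D K S hDK hKS
      rw [hDidx] at hmul
      rcases (Nat.dvd_prime hp.out).1 (Dvd.intro_left _ hmul) with h2 | h2
      · exact Or.inr (le_antisymm hKS (Subgroup.relIndex_eq_one.1 h2))
      · left
        rw [h2] at hmul
        exact le_antisymm (Subgroup.relIndex_eq_one.1
          ((Nat.mul_eq_right hp.out.ne_zero).1 hmul)) hDK
    have hpow : ∀ {d : G}, d ∈ S → IsPEl p d := fun hd =>
      CfsgLib.PGroup.Basic.exists_orderOf_eq_pow_of_mem hS hd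
    -- `D` is abelian
    have hDab : ∀ d ∈ D, ∀ e ∈ D, Commute d e := by
      intro d hd e he
      have hda : Commute d a := Subgroup.mem_centralizer_singleton_iff.1 hd.2
      have hsub : Subgroup.centralizer ({d * a} : Set G) ≤
          Subgroup.centralizer ({d} : Set G) ⊓ C := fun c hc => by
        have hc' : Commute c (d * a) := Subgroup.mem_centralizer_singleton_iff.1 hc
        obtain ⟨hd', ha'⟩ := parts_mem (S := Subgroup.centralizer ({c} : Set G)) (hpow hd.1) ha hda
          (Subgroup.mem_centralizer_singleton_iff.2 hc'.symm.eq)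
        exact ⟨Subgroup.mem_centralizer_singleton_iff.2
          (Subgroup.mem_centralizer_singleton_iff.1 hd').symm,
          Subgroup.mem_centralizer_singleton_iff.2
          (Subgroup.mem_centralizer_singleton_iff.1 ha').symm⟩
      set E := S ⊓ Subgroup.centralizer ({d * a} : Set G)
      have hED : E ≤ D := fun c hc => ⟨hc.1, (hsub hc.2).2⟩
      have hmul := Subgroup.relIndex_mul_relIndex E D S hED hDS
      rw [hDidx] at hmul
      have hE : E.relIndex S ∣ p := by
        rw [show E = Subgroup.centralizer ({d * a} : Set G) ⊓ S from inf_comm _ _,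
          Subgroup.inf_relIndex_right]
        exact relIndex_dvd_prime hS (h (d * a))
      rw [← hmul] at hE
      have h3 : E.relIndex D = 1 :=
        (Nat.mul_eq_right hp.out.ne_zero).1 (Nat.dvd_antisymm hE (dvd_mul_left p _))
      exact (Subgroup.mem_centralizer_singleton_iff.1
        (hsub (Subgroup.relIndex_eq_one.1 h3 he).2).1 : Commute e d).symm
    -- `D` is central in `S`
    have hDnorm : ∀ s ∈ S, ∀ d ∈ D, s * d * s⁻¹ ∈ D := by
      intro s hs d hd
      haveI : ((D.subgroupOf S)).Normal := by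
        obtain ⟨n, hn⟩ := hS.exists_card_eq
        refine Subgroup.normal_of_index_eq_minFac_card ?_
        change D.relIndex S = _
        have hd' := Subgroup.relIndex_dvd_card D S
        rw [hDidx, hn] at hd' ⊢
        have hn0 : n ≠ 0 := fun h0 => hp.out.ne_one (Nat.dvd_one.1 (by rwa [h0, pow_zero] at hd'))
        exact (hp.out.pow_minFac hn0).symm
      exact (inferInstance : (D.subgroupOf S).Normal).conj_mem ⟨d, hd.1⟩ hd ⟨s, hs⟩
    have hDcen : ∀ d ∈ D, ∀ s ∈ S, Commute d s := by
      intro d hd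
      set K := S ⊓ Subgroup.centralizer ({d} : Set G)
      rcases hmaxD K (fun e he => ⟨he.1, Subgroup.mem_centralizer_singleton_iff.2 (hDab d hd e he).symm.eq⟩)
        inf_le_left with hK | hK
      · exfalso
        -- then `a` acts trivially on `D` and on `S / D`
        have hk : ∀ s ∈ S, s⁻¹ * (a * s * a⁻¹) ∈ D := by
          intro s hs
          rw [← hK]
          refine Subgroup.mem_inf.2 ⟨mul_mem (inv_mem hs) ((inferInstance : S.Normal).conj_mem s hs a),
            Subgroup.mem_centralizer_singleton_iff.2 ?_⟩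
          have h4 : Commute (s * d * s⁻¹) a :=
            Subgroup.mem_centralizer_singleton_iff.1 (hDnorm s hs d hd).2
          have h5 : Commute d a := Subgroup.mem_centralizer_singleton_iff.1 hd.2
          have h6 : (a * s * a⁻¹) * d * (a * s * a⁻¹)⁻¹ = s * d * s⁻¹ := by
            calc (a * s * a⁻¹) * d * (a * s * a⁻¹)⁻¹ = a * (s * (a⁻¹ * d * a) * s⁻¹) * a⁻¹ := by group
              _ = a * (s * d * s⁻¹) * a⁻¹ := by rw [mul_assoc a⁻¹, h5.eq, inv_mul_cancel_left]
              _ = s * d * s⁻¹ := by rw [← h4.eq, mul_inv_cancel_right]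
          calc s⁻¹ * (a * s * a⁻¹) * d
              = s⁻¹ * ((a * s * a⁻¹) * d * (a * s * a⁻¹)⁻¹) * (a * s * a⁻¹) := by group
            _ = d * (s⁻¹ * (a * s * a⁻¹)) := by rw [h6]; group
        have hfix : S ≤ C := fun s hs => by
          set k := s⁻¹ * (a * s * a⁻¹)
          have hka : Commute k a := Subgroup.mem_centralizer_singleton_iff.1 (hk s hs).2
          have hit : ∀ n : ℕ, a ^ n * s * (a ^ n)⁻¹ = s * k ^ n := by
            intro n
            induction n with
            | zero => simp
            | succ n ih =>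
              calc a ^ (n + 1) * s * (a ^ (n + 1))⁻¹ = a * (a ^ n * s * (a ^ n)⁻¹) * a⁻¹ := by
                    rw [pow_succ']; group
                _ = a * s * (k ^ n * a⁻¹) := by rw [ih]; group
                _ = a * s * a⁻¹ * k ^ n := by rw [(hka.pow_left n).inv_right.eq]; group
                _ = s * k ^ (n + 1) := by
                    rw [pow_succ', ← mul_assoc s k, show s * k = a * s * a⁻¹ from mul_inv_cancel_left _ _]
          have h7 := hit (orderOf a)
          rw [pow_orderOf_eq_one] at h7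
          simp only [inv_one, one_mul, mul_one, left_eq_mul] at h7
          obtain ⟨j, hj⟩ := hpow (hk s hs).1
          have h8 : k = 1 := orderOf_eq_one_iff.1 (Nat.eq_one_of_dvd_coprimes
            (Nat.Coprime.pow_left j (hp.out.coprime_iff_not_dvd.2 ha)) (dvd_of_eq hj)
            (orderOf_dvd_of_pow_eq_one h7))
          rw [inv_mul_eq_one] at h8
          exact Subgroup.mem_centralizer_singleton_iff.2 (mul_inv_eq_iff_eq_mul.1 h8.symm).symm
        exact hp.out.ne_one (h1.symm.trans (Subgroup.relIndex_eq_one.2 hfix))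
      · intro s hs
        exact (show Commute s d from
          Subgroup.mem_centralizer_singleton_iff.1 (hK.ge hs).2).symm
    have hSab : ∀ s ∈ S, ∀ t ∈ S, Commute s t := by
      intro s hs t ht
      by_cases hsD : s ∈ D
      · exact hDcen s hsD t ht
      · set K := S ⊓ Subgroup.centralizer ({s} : Set G)
        rcases hmaxD K (fun e he => ⟨he.1,
          Subgroup.mem_centralizer_singleton_iff.2 (hDcen e he s hs).eq⟩) inf_le_left with hK | hK
        · exact absurd (hK.le ⟨hs, Subgroup.mem_centralizer_singleton_iff.2 rfl⟩) hsD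
        · exact (show Commute t s from
            Subgroup.mem_centralizer_singleton_iff.1 (hK.ge ht).2).symm
    -- the commutator map of `a`
    have hmemS : ∀ s : S, ⁅a, (s : G)⁆ ∈ S := fun s => by
      rw [commutatorElement_def]
      exact mul_mem ((inferInstance : S.Normal).conj_mem _ s.2 a) (inv_mem s.2)
    let τ : S →* S := MonoidHom.mk' (fun s => ⟨⁅a, (s : G)⁆, hmemS s⟩) (fun s t => Subtype.ext (by
      show ⁅a, (s : G) * (t : G)⁆ = ⁅a, (s : G)⁆ * ⁅a, (t : G)⁆
      have : ⁅a, (s : G) * (t : G)⁆ = ⁅a, (s : G)⁆ * ((s : G) * ⁅a, (t : G)⁆ * (s : G)⁻¹) := by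
        simp only [commutatorElement_def]; group
      rw [this, (hSab s s.2 _ (hmemS t)).eq, mul_inv_cancel_right]))
    set K := τ.range.map S.subtype
    have hKS : K ≤ S := Subgroup.map_subtype_le _
    have hKcard : Nat.card K = p := by
      rw [Subgroup.card_map_of_injective S.subtype_injective, ← Subgroup.index_ker, ← h1]
      show _ = (C.subgroupOf S).index
      congr 1
      ext y
      rw [MonoidHom.mem_ker, Subgroup.mem_subgroupOf, Subgroup.mem_centralizer_singleton_iff]
      constructor
      · intro hy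
        exact (commutatorElement_eq_one_iff_mul_comm.1 (congrArg Subtype.val hy)).symm
      · intro hy
        exact Subtype.ext (commutatorElement_eq_one_iff_mul_comm.2 hy.symm)
    have hKn : K.Normal := by
      rw [← Subgroup.normalizer_eq_top_iff, ← top_le_iff, ← hgen]
      refine sup_le (fun s hs => ?_) (Subgroup.zpowers_le.2 ?_)
      · exact CfsgLib.SquarefreeClass.centralizer_le_normalizer' _
          (fun k hk => (hSab s hs k (hKS hk)).symm.eq)
      · rw [Subgroup.mem_normalizer_iff_map_conj_eq]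
        refine Subgroup.eq_of_le_of_card_ge ?_ ?_
        · rintro _ ⟨_, ⟨_, ⟨s, rfl⟩, rfl⟩, rfl⟩
          exact ⟨τ ⟨a * s * a⁻¹, (inferInstance : S.Normal).conj_mem _ s.2 a⟩, ⟨_, rfl⟩,
            (show ⁅a, a * (s : G) * a⁻¹⁆ = MulAut.conj a ⁅a, (s : G)⁆ by
              simp only [commutatorElement_def, MulAut.conj_apply]; group)⟩
        · exact le_of_eq (Subgroup.card_map_of_injective (MulAut.conj a).injective).symm
    refine (Subgroup.card_dvd_of_le ?_).trans (dvd_of_eq hKcard)
    refine commutator_le_of_gen hgen ?_ fun s hs => ⟨τ ⟨s, hs⟩, ⟨_, rfl⟩, rfl⟩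
    rw [Subgroup.commutator_le]
    intro s hs t ht
    rw [commutatorElement_eq_one_iff_mul_comm.2 (hSab s hs t ht).eq]
    exact one_mem _

end CfsgLib.SquarefreeClass
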