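import Cfsg.Agent.Lib.SquarefreeClass.Control
import Cfsg.Agent.Lib.Coprime.ClassSizeGraph

/-!
If the square of the smallest prime divisor of the order divides no class size, a Sylow subgroup
controls its fusion; a group with square-free class sizes is solvable.
-/

set_option autoImplicit false
set_option linter.unusedSectionVars false
set_option linter.style.haveILetI false

namespace CfsgLib.SquarefreeClass

open CfsgLib.PGroup

variable {G : Type*} [Group G] [Finite G] {p : ℕ} [hp : Fact p.Prime]

/-- The sum of the counts over a class. -/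
noncomputable def classSum (p : ℕ) (x : G) : ℕ := Nat.card {z : G // IsConj x z} * regNum p x

/-- Every Sylow subgroup for the smallest prime controls its fusion. -/
theorem controls (P : Sylow p G) (hmin : ∀ r, r.Prime → r ∣ Nat.card G → p ≤ r)
    (h : ∀ g : G, ¬ p ^ 2 ∣ (Subgroup.centralizer ({g} : Set G)).index) :
    CfsgLib.Fusion.Transfer.Controls (P : Subgroup G) (P : Subgroup G) := by
  classical
  obtain ⟨a, ha⟩ := P.2.exists_card_eq
  rcases Nat.eq_zero_or_pos a with rfl | hpos
  · intro x hx g hg
    rw [pow_zero] at ha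
    rw [Subgroup.eq_bot_of_card_eq _ ha, Subgroup.mem_bot] at hx
    exact ⟨1, one_mem _, by subst hx; simp⟩
  haveI := Fintype.ofFinite G
  set m := (P : Subgroup G).index
  have hG : Nat.card G = p ^ a * m := by rw [← ha, (P : Subgroup G).card_mul_index]
  have hmpos : 0 < m := Nat.pos_of_ne_zero fun h0 =>
    P.not_dvd_index (show p ∣ m by rw [h0]; exact dvd_zero p)
  have hp2 := hp.out.two_le
  -- the bounds for one class
  have hSle : ∀ x ∈ (P : Subgroup G), classSum p x ≤ p * m := by
    intro x hx
    have h1 := regNum_mul_le (ha ▸ (P : Subgroup G).card_subgroup_dvd_card) h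
      (Basic.exists_orderOf_eq_pow_of_mem P.2 hx)
    have h2 := FrobeniusCount.card_conj_mul_card_centralizer x
    refine Nat.le_of_mul_le_mul_right ?_ (pow_pos hp.out.pos (a - 1))
    calc classSum p x * p ^ (a - 1)
        = Nat.card {z : G // IsConj x z} * (regNum p x * p ^ (a - 1)) := mul_assoc _ _ _
      _ ≤ Nat.card {z : G // IsConj x z} * Nat.card (Subgroup.centralizer ({x} : Set G)) :=
          Nat.mul_le_mul_left _ h1
      _ = p * m * p ^ (a - 1) := by
          rw [h2, hG,
            show p ^ a = p * p ^ (a - 1) by rw [← pow_succ', Nat.sub_add_cancel hpos]]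
          ring
  have hcent : ∀ x ∈ (P : Subgroup G), x ∈ Subgroup.centralizer ((P : Subgroup G) : Set G) →
      ∃ c, classSum p x = c * m ∧ 0 < c ∧ c < p ∧
      ((∀ k ∈ Subgroup.normalizer ((P : Subgroup G) : Set G), ¬ p ∣ orderOf k →
          k ∈ Subgroup.centralizer ((P : Subgroup G) : Set G)) → c = 1) := by
    intro x hx hxC
    obtain ⟨c, M, hN, hc0, hcp, hC, hKT⟩ := exists_regNum_eq P ha hpos h hx hxC
    refine ⟨c, ?_, hc0, hcp, hKT⟩
    have h2 : Nat.card {z : G // IsConj x z} * (p ^ a * M) = p ^ a * m := by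
      rw [← hC, ← hG, FrobeniusCount.card_conj_mul_card_centralizer]
    have h3 : Nat.card {z : G // IsConj x z} * M = m :=
      Nat.eq_of_mul_eq_mul_left (pow_pos hp.out.pos a) (by rw [← h2]; ring)
    rw [classSum, hN, ← h3]; ring
  -- the classes meeting `P`
  set T : Finset (ConjClasses G) :=
    (Finset.univ.filter fun x : G => x ∈ (P : Subgroup G)).image ConjClasses.mk with hT
  set S : ConjClasses G → ℕ := fun C =>
    ∑ y ∈ (Finset.univ.filter (IsPEl p : G → Prop)).filter (fun y => ConjClasses.mk y = C),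
      regNum p y with hS
  set f : ConjClasses G → ℕ := fun C =>
    ((Finset.univ.filter fun x : G => x ∈ (P : Subgroup G)).filter
      fun x => ConjClasses.mk x = C).card with hf
  have hsumS : ∑ C ∈ T, S C = p ^ a * m := by
    rw [← hG, ← sum_regNum (p := p)]
    refine Finset.sum_fiberwise_of_maps_to (fun y hy => ?_) _
    obtain ⟨R, hR⟩ := Basic.mem_sylow_of_orderOf (Finset.mem_filter.1 hy).2
    obtain ⟨g, hg⟩ := MulAction.exists_smul_eq G R P
    refine Finset.mem_image.2 ⟨g * y * g⁻¹, Finset.mem_filter.2 ⟨Finset.mem_univ _, ?_⟩,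
      (ConjClasses.mk_eq_mk_iff_isConj.2 (isConj_iff.2 ⟨g, rfl⟩)).symm⟩
    rw [← hg]
    exact ⟨y, hR, rfl⟩
  have hsumf : ∑ C ∈ T, f C = p ^ a := by
    rw [← Finset.card_eq_sum_card_image, ← ha, Nat.card_eq_fintype_card, Fintype.card_subtype]
  have hSx : ∀ x ∈ (P : Subgroup G), S (ConjClasses.mk x) = classSum p x := by
    intro x hx
    obtain ⟨j, hj⟩ := Basic.exists_orderOf_eq_pow_of_mem P.2 hx
    rw [hS]
    simp only
    rw [Finset.filter_filter, classSum, Nat.card_eq_fintype_card, Fintype.card_subtype]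
    rw [Finset.sum_congr (s₂ := Finset.univ.filter fun z => IsConj x z) (g := fun _ => regNum p x)
      ?_ ?_, Finset.sum_const, smul_eq_mul]
    · ext z
      simp only [Finset.mem_filter, Finset.mem_univ, true_and, ConjClasses.mk_eq_mk_iff_isConj]
      refine ⟨fun hz => hz.2.symm, fun hz => ⟨?_, hz.symm⟩⟩
      obtain ⟨g, rfl⟩ := isConj_iff.1 hz
      exact ⟨j, by rw [orderOf_conj, hj]⟩
    · intro z hz
      obtain ⟨g, rfl⟩ := isConj_iff.1 (Finset.mem_filter.1 hz).2
      exact regNum_conj p g x
  have hfx : ∀ x ∈ (P : Subgroup G), f (ConjClasses.mk x) =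
      {z | z ∈ (P : Subgroup G) ∧ IsConj x z}.ncard := by
    intro x hx
    rw [hf, Set.ncard_eq_toFinset_card']
    simp only
    congr 1
    ext z
    simp only [Finset.mem_filter, Finset.mem_univ, true_and, Set.mem_toFinset, Set.mem_setOf_eq,
      ConjClasses.mk_eq_mk_iff_isConj]
    exact ⟨fun h => ⟨h.1, h.2.symm⟩, fun h => ⟨h.1, h.2.symm⟩⟩
  have hforb : ∀ x ∈ (P : Subgroup G), x ∉ Subgroup.centralizer ((P : Subgroup G) : Set G) →
      p ≤ f (ConjClasses.mk x) := by
    intro x hx hxC
    rw [hfx x hx]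
    refine (prime_le_pOrb P hxC).trans (Set.ncard_le_ncard ?_)
    rintro _ ⟨u, hu, rfl⟩
    exact ⟨mul_mem (mul_mem hu hx) (inv_mem hu), isConj_iff.2 ⟨u, rfl⟩⟩
  have hf1 : ∀ C ∈ T, 0 < f C := by
    intro C hC
    obtain ⟨x, hx, rfl⟩ := Finset.mem_image.1 hC
    exact Finset.card_pos.2 ⟨x, Finset.mem_filter.2 ⟨hx, rfl⟩⟩
  let Fu : ConjClasses G → Prop := fun C =>
    ∃ x ∈ (P : Subgroup G), ConjClasses.mk x = C ∧ ¬ Unfused (P : Subgroup G) x
  by_cases hKT : ∀ k ∈ Subgroup.normalizer ((P : Subgroup G) : Set G), ¬ p ∣ orderOf k →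
      k ∈ Subgroup.centralizer ((P : Subgroup G) : Set G)
  · -- no class fuses
    intro x hx g hg
    by_contra hne
    have hFx : ¬ Unfused (P : Subgroup G) x := fun hu =>
      hne (hu _ hg (isConj_iff.2 ⟨g, rfl⟩))
    have hlt : ∑ C ∈ T, S C < ∑ C ∈ T, m * f C := by
      refine Finset.sum_lt_sum ?_ ⟨ConjClasses.mk x,
        Finset.mem_image.2 ⟨x, Finset.mem_filter.2 ⟨Finset.mem_univ _, hx⟩, rfl⟩, ?_⟩
      · intro C hC
        obtain ⟨y, hy, rfl⟩ := Finset.mem_image.1 hC
        have hyP := (Finset.mem_filter.1 hy).2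
        rw [hSx y hyP]
        by_cases hyC : y ∈ Subgroup.centralizer ((P : Subgroup G) : Set G)
        · obtain ⟨c, hc, -, -, hc1⟩ := hcent y hyP hyC
          rw [hc, hc1 hKT, one_mul]
          exact Nat.le_mul_of_pos_right _ (hf1 _ hC)
        · calc classSum p y ≤ p * m := hSle y hyP
            _ ≤ m * f (ConjClasses.mk y) := by
              rw [mul_comm]; exact Nat.mul_le_mul_left m (hforb y hyP hyC)
      · rw [hSx x hx]
        calc classSum p x ≤ p * m := hSle x hx
          _ < m * f (ConjClasses.mk x) := by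
            rw [mul_comm, hfx x hx]
            exact Nat.mul_lt_mul_of_pos_left (fused_card P hmin hx hFx) hmpos
    rw [← Finset.mul_sum, hsumf, hsumS, mul_comm] at hlt
    exact lt_irrefl _ hlt
  · -- the unfused part is too small
    exfalso
    simp only [not_forall] at hKT
    obtain ⟨k, hkN, hk, hkC⟩ := hKT
    have hU : (∑ C ∈ T.filter (fun C => ¬ Fu C), f C) * p ^ 2 ≤ p ^ a := by
      refine le_trans (Nat.mul_le_mul_right _ ?_) (card_fixed_le P ha hmin hkN hk hkC)
      calc ∑ C ∈ T.filter (fun C => ¬ Fu C), f C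
          = ((Finset.univ.filter fun x : G => x ∈ (P : Subgroup G)).filter
              (fun x => ConjClasses.mk x ∈ T.filter (fun C => ¬ Fu C))).card := by
            rw [Finset.card_eq_sum_card_fiberwise (f := ConjClasses.mk)
              (s := (Finset.univ.filter fun x : G => x ∈ (P : Subgroup G)).filter
                (fun x => ConjClasses.mk x ∈ T.filter (fun C => ¬ Fu C)))
              (t := T.filter (fun C => ¬ Fu C))
              (fun x hx => Finset.mem_coe.2 (Finset.mem_filter.1 (Finset.mem_coe.1 hx)).2)]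
            refine Finset.sum_congr rfl fun C hC => congrArg Finset.card ?_
            ext x
            simp only [Finset.mem_filter]
            constructor
            · rintro ⟨hx, hxC⟩
              exact ⟨⟨hx, hxC ▸ (Finset.mem_filter.1 hC).1, hxC ▸ (Finset.mem_filter.1 hC).2⟩, hxC⟩
            · rintro ⟨⟨hx, -⟩, hxC⟩
              exact ⟨hx, hxC⟩
        _ ≤ Nat.card ((P : Subgroup G) ⊓ Subgroup.centralizer ({k} : Set G) : Subgroup G) := by
            rw [Nat.card_eq_fintype_card, Fintype.card_subtype]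
            refine Finset.card_le_card fun x hx => ?_
            simp only [Finset.mem_filter, Finset.mem_univ, true_and] at hx ⊢
            have hun : Unfused (P : Subgroup G) x := not_not.1 fun hn => hx.2.2 ⟨x, hx.1, rfl, hn⟩
            refine ⟨hx.1, Subgroup.mem_centralizer_singleton_iff.2 ?_⟩
            exact (mul_inv_eq_iff_eq_mul.1
              (commute_of_unfused P ha hpos hmin h hx.1 hun hkN hk)).symm
    have hfu : ∀ C ∈ T.filter (fun C => Fu C),
        (p + 1) * S C + m * f C ≤ (p + 1) * m * f C := by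
      intro C hC
      obtain ⟨x, hx, rfl, hn⟩ := (Finset.mem_filter.1 hC).2
      rw [hSx x hx, hfx x hx]
      have h1 := hSle x hx
      have h2 := fused_card P hmin hx hn
      calc (p + 1) * classSum p x + m * _ ≤ (p + 1) * (p * m) + m * _ :=
            Nat.add_le_add_right (Nat.mul_le_mul_left _ h1) _
        _ ≤ _ := by nlinarith
    have hun : ∀ C ∈ T.filter (fun C => ¬ Fu C), S C ≤ (p - 1) * (m * f C) := by
      intro C hC
      obtain ⟨x, hx', rfl⟩ := Finset.mem_image.1 (Finset.mem_filter.1 hC).1
      have hx := (Finset.mem_filter.1 hx').2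
      have hpos' := hf1 _ (Finset.mem_filter.1 hC).1
      rw [hSx x hx]
      by_cases hxC : x ∈ Subgroup.centralizer ((P : Subgroup G) : Set G)
      · obtain ⟨c, hc, -, hcp, -⟩ := hcent x hx hxC
        rw [hc]
        exact Nat.mul_le_mul (by omega) (Nat.le_mul_of_pos_right _ hpos')
      · calc classSum p x ≤ p * m := hSle x hx
          _ ≤ m * f (ConjClasses.mk x) := by
            rw [mul_comm]; exact Nat.mul_le_mul_left m (hforb x hx hxC)
          _ ≤ _ := Nat.le_mul_of_pos_left _ (by omega)
    have hA := Finset.sum_le_sum hfu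
    have hB := Finset.sum_le_sum hun
    rw [Finset.sum_add_distrib, ← Finset.mul_sum, ← Finset.mul_sum, ← Finset.mul_sum] at hA
    rw [← Finset.mul_sum, ← Finset.mul_sum] at hB
    rw [← Finset.sum_filter_add_sum_filter_not T Fu S] at hsumS
    rw [← Finset.sum_filter_add_sum_filter_not T Fu f] at hsumf
    set A := ∑ C ∈ T.filter Fu, S C
    set B := ∑ C ∈ T.filter (fun C => ¬ Fu C), S C
    set F := ∑ C ∈ T.filter Fu, f C
    set U := ∑ C ∈ T.filter (fun C => ¬ Fu C), f C
    obtain ⟨q, rfl⟩ : ∃ q, p = q + 2 := ⟨p - 2, by omega⟩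
    rw [show q + 2 - 1 = q + 1 from rfl] at hB
    have hkey : (q + 3) * ((q + 2) ^ a) + F ≤ (q + 3) * F + (q + 3) * ((q + 1) * U) := by
      refine Nat.le_of_mul_le_mul_left ?_ hmpos
      have h5 : (q + 2 + 1) * B ≤ (q + 2 + 1) * ((q + 1) * (m * U)) := Nat.mul_le_mul_left _ hB
      calc m * ((q + 3) * ((q + 2) ^ a) + F) = (q + 2 + 1) * (A + B) + m * F := by rw [hsumS]; ring
        _ ≤ (q + 2 + 1) * m * F + (q + 2 + 1) * ((q + 1) * (m * U)) := by linarith
        _ = m * ((q + 3) * F + (q + 3) * ((q + 1) * U)) := by ring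
    have hU0 : U = 0 := by nlinarith
    have hF0 : F = 0 := by rw [hU0] at hkey hsumf; nlinarith
    have := pow_pos (show 0 < q + 2 by omega) a
    omega

/-- A nontrivial group whose class sizes avoid the square of its smallest prime is not perfect. -/
theorem commutator_ne_top [Nontrivial G] (hp' : p ∣ Nat.card G)
    (hmin : ∀ r, r.Prime → r ∣ Nat.card G → p ≤ r)
    (h : ∀ g : G, ¬ p ^ 2 ∣ (Subgroup.centralizer ({g} : Set G)).index) :
    _root_.commutator G ≠ ⊤ := by
  intro htop
  let P : Sylow p G := default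
  have hPne : (P : Subgroup G) ≠ ⊥ := P.ne_bot_of_dvd_card hp'
  haveI : Nontrivial (P : Subgroup G) := (Subgroup.nontrivial_iff_ne_bot _).2 hPne
  haveI := P.2.isNilpotent
  have h1 := CfsgLib.Fusion.Transfer.commutator_inf_eq_of_controls P le_rfl (controls P hmin h)
  rw [htop, top_inf_eq] at h1
  have h2 : (P : Subgroup G) ≤ ⁅(P : Subgroup G), (P : Subgroup G)⁆ := h1.le.trans inf_le_left
  refine (Group.IsSolvable.commutator_lt_top_of_nontrivial (P : Subgroup G)).ne ?_
  refine Subgroup.map_injective (Subgroup.subtype_injective _) ?_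
  rw [Subgroup.map_subtype_commutator, ← MonoidHom.range_eq_map, Subgroup.range_subtype]
  exact le_antisymm (Subgroup.commutator_le_self _) h2

/-- The hypothesis passes to normal subgroups. -/
theorem squarefree_of_normal (N : Subgroup G) [N.Normal] (x : N)
    (h : Squarefree (Subgroup.centralizer ({(x : G)} : Set G)).index) :
    Squarefree (Subgroup.centralizer ({x} : Set N)).index := by
  refine Squarefree.squarefree_of_dvd ?_ h
  refine dvd_trans (dvd_of_eq ?_) (CfsgLib.Coprime.ClassSizeGraph.relIndex_dvd_index_of_normal'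
    (Subgroup.centralizer ({(x : G)} : Set G)) N)
  show _ = ((Subgroup.centralizer ({(x : G)} : Set G)).subgroupOf N).index
  congr 1
  ext y
  rw [Subgroup.mem_centralizer_singleton_iff, Subgroup.mem_subgroupOf,
    Subgroup.mem_centralizer_singleton_iff, ← Subgroup.coe_mul, ← Subgroup.coe_mul, Subtype.coe_inj]

/-- A finite group with square-free class sizes is solvable. -/
theorem isSolvable : ∀ (n : ℕ) (G : Type*) [Group G] [Finite G], Nat.card G ≤ n →
    (∀ x : G, Squarefree (Subgroup.centralizer ({x} : Set G)).index) → Group.IsSolvable G := by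
  intro n
  induction n with
  | zero => intro G _ _ hn _; exact absurd hn (not_le.2 Nat.card_pos)
  | succ n ih =>
    intro G _ _ hn h
    rcases subsingleton_or_nontrivial G with hG | hG
    · infer_instance
    have h1 : Nat.card G ≠ 1 := by have := Finite.one_lt_card (α := G); omega
    haveI : Fact (Nat.card G).minFac.Prime := ⟨Nat.minFac_prime h1⟩
    have hlt : _root_.commutator G ≠ ⊤ := commutator_ne_top (Nat.minFac_dvd _)
      (fun r hr hd => Nat.minFac_le_of_dvd hr.two_le hd) (fun g hd => by
        have := h g _ ((sq (Nat.card G).minFac) ▸ hd)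
        exact (Nat.minFac_prime h1).ne_one (Nat.isUnit_iff.1 this))
    have hcard : Nat.card (_root_.commutator G) ≤ n := by
      have h2 := (_root_.commutator G).card_le_card_group
      have h3 : Nat.card (_root_.commutator G) ≠ Nat.card G := fun he =>
        hlt (Subgroup.eq_top_of_card_eq _ he)
      omega
    haveI := ih (_root_.commutator G) hcard fun x => squarefree_of_normal _ x (h x)
    refine (Group.isSolvable_iff_subgroup_quotient (_root_.commutator G)).2 ⟨inferInstance, ?_⟩
    exact Group.isSolvable_of_comm fun a b => mul_comm (G := Abelianization G) a b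

end CfsgLib.SquarefreeClass
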