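import Cfsg.Agent.Lib.SquarefreeClass.Super
import Cfsg.Agent.Lib.SquarefreeClass.Central
import Cfsg.Agent.Lib.Fusion.Basic

/-!
A Sylow subgroup induces at most a group of prime order on a normal nilpotent subgroup of coprime
order consisting of elements with square-free class sizes.
-/

set_option autoImplicit false
set_option linter.unusedSectionVars false
set_option linter.style.haveILetI false

namespace CfsgLib.SquarefreeClass

open scoped commutatorElement

variable {G : Type*} [Group G] [Finite G] {p : ℕ} [hp : Fact p.Prime]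

/-- A `p`-group of operators fixing a nilpotent group of coprime order modulo its derived group
fixes it. -/
theorem le_centralizer_of_mod_commutator (N T : Subgroup G) [N.Normal] [Group.IsNilpotent N]
    (hT : IsPGroup p T) (hpN : ¬ p ∣ Nat.card N)
    (h : ∀ t ∈ T, ∀ v ∈ N, t * v * t⁻¹ * v⁻¹ ∈ ⁅N, N⁆) :
    T ≤ Subgroup.centralizer (N : Set G) := by
  set C : Subgroup N := (Subgroup.centralizer (T : Set G)).subgroupOf N with hC
  suffices hCtop : C = ⊤ by
    intro t ht v hv
    exact ((hCtop ▸ Subgroup.mem_top (⟨v, hv⟩ : N) : (⟨v, hv⟩ : N) ∈ C) t ht).symm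
  set D := ⁅N, N⁆
  have hDN : D ≤ N := Subgroup.commutator_le_self N
  -- every coset of the derived group meets the fixed points
  have hfix : ∀ v ∈ N, ∃ w ∈ Subgroup.centralizer (T : Set G), v⁻¹ * w ∈ D := by
    intro v hv
    have hmem : ∀ (t : T) (d : D), v⁻¹ * ((t : G) * (v * (d : G)) * (t : G)⁻¹) ∈ D := by
      intro t d
      rw [show v⁻¹ * ((t : G) * (v * (d : G)) * (t : G)⁻¹) =
        (v⁻¹ * ((t : G) * v * (t : G)⁻¹ * v⁻¹) * v) * ((t : G) * (d : G) * (t : G)⁻¹) by group]
      refine mul_mem ?_ ((inferInstance : D.Normal).conj_mem _ d.2 _)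
      simpa using (inferInstance : D.Normal).conj_mem _ (h t t.2 v hv) v⁻¹
    letI : MulAction T D :=
      { smul := fun t d => ⟨v⁻¹ * ((t : G) * (v * (d : G)) * (t : G)⁻¹), hmem t d⟩
        one_smul := fun d => Subtype.ext (by
          show v⁻¹ * (((1 : T) : G) * (v * (d : G)) * ((1 : T) : G)⁻¹) = (d : G)
          simp)
        mul_smul := fun t u d => Subtype.ext (by
          show v⁻¹ * (((t * u : T) : G) * (v * (d : G)) * ((t * u : T) : G)⁻¹) =
            v⁻¹ * ((t : G) * (v * (v⁻¹ * ((u : G) * (v * (d : G)) * (u : G)⁻¹))) * (t : G)⁻¹)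
          simp [mul_assoc]) }
    obtain ⟨d, hd⟩ := hT.nonempty_fixed_point_of_prime_not_dvd_card D
      (fun hd => hpN (hd.trans (Subgroup.card_dvd_of_le hDN)))
    refine ⟨v * (d : G), fun t ht => ?_, by simp⟩
    have h1 : v⁻¹ * (t * (v * (d : G)) * t⁻¹) = (d : G) := congrArg Subtype.val (hd ⟨t, ht⟩)
    rw [inv_mul_eq_iff_eq_mul, mul_inv_eq_iff_eq_mul] at h1
    exact h1
  by_contra hne
  obtain ⟨M, hM, hle⟩ := (eq_top_or_exists_le_coatom C).resolve_left hne
  haveI := Subgroup.NormalizerCondition.normal_of_coatom M Group.normalizerCondition_of_isNilpotent hM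
  apply hM.1
  refine top_le_iff.1 (CfsgLib.Fusion.Basic.le_of_le_commutator_sup fun x _ => ?_)
  obtain ⟨w, hw, hwD⟩ := hfix x x.2
  have hwN : w ∈ N := by simpa using mul_mem x.2 (hDN hwD)
  have h1 : ((x : N) * (⟨w, hwN⟩ : N)⁻¹) ∈ _root_.commutator N := by
    rw [← Subgroup.mem_map_iff_mem N.subtype_injective]
    rw [Subgroup.map_subtype_commutator]
    have h2 := (inferInstance : D.Normal).conj_mem _ (inv_mem hwD) (x : G)
    simpa [mul_assoc] using h2
  rw [show x = (x * (⟨w, hwN⟩ : N)⁻¹) * ⟨w, hwN⟩ by group]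
  exact Subgroup.mul_mem_sup h1 (hle hw)

/-- The main lemma: the kernel of a Sylow subgroup on `N` has index at most `p`. -/
theorem relIndex_centralizer_dvd (P : Sylow p G) (N : Subgroup G) [N.Normal] [Group.IsNilpotent N]
    (hpN : ¬ p ∣ Nat.card N)
    (hG' : ∀ c ∈ _root_.commutator G, ∀ v ∈ N, c * v * c⁻¹ * v⁻¹ ∈ ⁅N, N⁆)
    (h : ∀ v ∈ N, Squarefree (Subgroup.centralizer ({v} : Set G)).index) :
    (Subgroup.centralizer (N : Set G)).relIndex (P : Subgroup G) ∣ p := by
  set D := ⁅N, N⁆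
  set q := QuotientGroup.mk' D
  set St : G → Subgroup G := fun v => (Subgroup.centralizer ({q v} : Set (G ⧸ D))).comap q with hSt
  have hmemSt : ∀ v g, g ∈ St v ↔ g * v * g⁻¹ * v⁻¹ ∈ D := by
    intro v g
    rw [hSt, Subgroup.mem_comap, Subgroup.mem_centralizer_singleton_iff, ← map_mul, ← map_mul,
      QuotientGroup.mk'_eq_mk']
    constructor
    · rintro ⟨d, hd, he⟩
      have he' : d = (g * v)⁻¹ * (v * g) := by rw [← he]; group
      subst he'
      have := (inferInstance : D.Normal).conj_mem _ (inv_mem hd) (v * g)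
      simpa [mul_assoc] using this
    · intro hd
      refine ⟨(g * v)⁻¹ * (v * g), ?_, by group⟩
      have := (inferInstance : D.Normal).conj_mem _ (inv_mem hd) (v * g)⁻¹
      simpa [mul_assoc] using this
  have hnorm : ∀ v ∈ N, (St v).Normal ∧ Squarefree (St v).index := by
    intro v hv
    refine ⟨⟨fun x hx g => ?_⟩, ?_⟩
    · have hc : g * x * g⁻¹ * x⁻¹ ∈ St v := (hmemSt v _).2 (hG' _ (by
        rw [_root_.commutator_def]
        simpa [commutatorElement_def] using
          Subgroup.commutator_mem_commutator (Subgroup.mem_top g) (Subgroup.mem_top x)) v hv)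
      simpa using mul_mem hc hx
    · refine (h v hv).squarefree_of_dvd ?_
      rw [hSt, Subgroup.index_comap_of_surjective _ (QuotientGroup.mk'_surjective D)]
      exact csz_map_dvd q (QuotientGroup.mk'_surjective D) v
  obtain ⟨a, ha⟩ := P.2.exists_card_eq
  have hidx : ∀ v ∈ N, (St v).relIndex (P : Subgroup G) ∣ p := by
    intro v hv
    haveI := (hnorm v hv).1
    obtain ⟨k, -, hk⟩ := (Nat.dvd_prime_pow hp.out).1
      (ha ▸ Subgroup.relIndex_dvd_card (St v) (P : Subgroup G))
    rw [hk]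
    exact prime_of_squarefree_pow hp.out
      ((hnorm v hv).2.squarefree_of_dvd (hk ▸ Subgroup.relIndex_dvd_index_of_normal _ _))
  -- the stabilisers inside `P`
  set M : G → Subgroup P := fun v => (St v).subgroupOf (P : Subgroup G) with hM
  set Ker : Subgroup P := (Subgroup.centralizer (N : Set G)).subgroupOf (P : Subgroup G) with hKer
  change Ker.index ∣ p
  have hKle : ∀ v ∈ N, Ker ≤ M v := by
    intro v hv x hx
    refine (hmemSt v _).2 ?_
    rw [← hx v hv, mul_inv_cancel_right, mul_inv_cancel]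
    exact one_mem _
  have hKer' : ∀ x : P, (∀ v ∈ N, x ∈ M v) → x ∈ Ker := by
    intro x hx
    let T : Subgroup P := ⨅ v : N, M v
    have hTc : T.map (P : Subgroup G).subtype ≤ Subgroup.centralizer (N : Set G) := by
      refine le_centralizer_of_mod_commutator N _ ((P.2.to_subgroup T).map _) hpN ?_
      rintro _ ⟨t, ht, rfl⟩ v hv
      exact (hmemSt v _).1 (Subgroup.mem_iInf.1 ht ⟨v, hv⟩)
    exact hTc ⟨x, Subgroup.mem_iInf.2 fun v => hx v v.2, rfl⟩
  by_contra hnot
  have hindex : ∀ v ∈ N, M v ≠ ⊤ → (M v).index = p := fun v hv hne =>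
    ((Nat.dvd_prime hp.out).1 (hidx v hv)).resolve_left fun h1 => hne (Subgroup.index_eq_one.1 h1)
  have hmax : ∀ v ∈ N, M v ≠ ⊤ → ∀ K : Subgroup P, M v ≤ K → K = M v ∨ K = ⊤ := by
    intro v hv hne K hK
    have h1 := Subgroup.index_dvd_of_le hK
    rw [hindex v hv hne] at h1
    rcases (Nat.dvd_prime hp.out).1 h1 with h2 | h2
    · exact Or.inr (Subgroup.index_eq_one.1 h2)
    · left
      refine (Subgroup.eq_of_le_of_card_ge hK (le_of_eq ?_)).symm
      refine Nat.eq_of_mul_eq_mul_right hp.out.pos ?_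
      have t1 := K.card_mul_index
      have t2 := (M v).card_mul_index
      rw [h2] at t1
      rw [hindex v hv hne] at t2
      rw [t1, t2]
  obtain ⟨v, hv, hvne⟩ : ∃ v ∈ N, M v ≠ ⊤ := by
    by_contra hc
    refine hnot ?_
    rw [show Ker = ⊤ from top_le_iff.1 fun x _ => hKer' x fun v hv =>
      (not_not.1 fun hn => hc ⟨v, hv, hn⟩ : M v = ⊤) ▸ Subgroup.mem_top x, Subgroup.index_top]
    exact one_dvd p
  obtain ⟨m, hmv, hmK⟩ : ∃ m ∈ M v, m ∉ Ker := by
    by_contra hc
    refine hnot ?_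
    rw [show Ker = M v from le_antisymm (hKle v hv) fun x hx => not_not.1 fun hn => hc ⟨x, hx, hn⟩,
      hindex v hv hvne]
  obtain ⟨w, hw, hmw⟩ : ∃ w ∈ N, m ∉ M w := by
    by_contra hc
    exact hmK (hKer' m fun w hw => not_not.1 fun hn => hc ⟨w, hw, hn⟩)
  have hwne : M w ≠ ⊤ := fun h1 => hmw (h1 ▸ Subgroup.mem_top m)
  have hqcomm : ∀ a ∈ N, ∀ b ∈ N, Commute (q a) (q b) := by
    intro a ha b hb
    rw [Commute, SemiconjBy, ← map_mul, ← map_mul, QuotientGroup.mk'_eq_mk']
    refine ⟨⁅b⁻¹, a⁻¹⁆, Subgroup.commutator_mem_commutator (inv_mem hb) (inv_mem ha), ?_⟩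
    simp [commutatorElement_def, mul_assoc]
  -- an element moving `v` while fixing `v * w`
  obtain ⟨e, he, hev⟩ : ∃ e, e ∈ M (v * w) ∧ e ∉ M v := by
    by_contra hc
    have hle : M (v * w) ≤ M v := fun x hx => not_not.1 fun hn => hc ⟨x, hx, hn⟩
    have hne : M (v * w) ≠ ⊤ := fun h1 => hvne (top_le_iff.1 (h1 ▸ hle))
    have heq : M v = M (v * w) :=
      (hmax _ (mul_mem hv hw) hne _ hle).resolve_right hvne
    refine hmw ?_
    have h1 : Commute (q m) (q v) := Subgroup.mem_centralizer_singleton_iff.1 hmv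
    have h2 : Commute (q m) (q (v * w)) :=
      Subgroup.mem_centralizer_singleton_iff.1 (show m ∈ M (v * w) from heq ▸ hmv)
    have h3 := h1.inv_right.mul_right h2
    rw [map_mul, inv_mul_cancel_left] at h3
    exact Subgroup.mem_centralizer_singleton_iff.2 h3.eq
  set a' := (e : G) with ha'
  set d := a' * v * a'⁻¹ * v⁻¹ with hd
  have hdN : d ∈ N := mul_mem ((inferInstance : N.Normal).conj_mem v hv _) (inv_mem hv)
  have hdD : d ∉ D := fun hd' => hev ((hmemSt v _).2 hd')
  -- `d` is fixed by the stabilisers of `v` and of `w`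
  have hSd : ∀ u ∈ N, ∀ g ∈ St u, Commute (q g) (q (a' * u * a'⁻¹ * u⁻¹)) := by
    intro u hu g hg
    haveI := (hnorm u hu).1
    have h1 : Commute (q g) (q u) := Subgroup.mem_centralizer_singleton_iff.1 hg
    have h2 : Commute (q (a'⁻¹ * g * a')) (q u) := Subgroup.mem_centralizer_singleton_iff.1
      (show a'⁻¹ * g * a' ∈ St u by
        simpa using (hnorm u hu).1.conj_mem g hg a'⁻¹)
    have h3 := h2.map (MulAut.conj (q a'))
    rw [MulAut.conj_apply, MulAut.conj_apply, ← map_inv, ← map_mul, ← map_mul, ← map_mul,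
      ← map_mul, show a' * (a'⁻¹ * g * a') * a'⁻¹ = g by group] at h3
    rw [map_mul q (a' * u * a'⁻¹), map_inv]
    exact h3.mul_right h1.inv_right
  have hdw : q d = (q (a' * w * a'⁻¹ * w⁻¹))⁻¹ := by
    have h1 : Commute (q a') (q (v * w)) := Subgroup.mem_centralizer_singleton_iff.1 he
    have h2 : q (a' * v * a'⁻¹) * q (a' * w * a'⁻¹) = q v * q w := by
      rw [← map_mul, ← map_mul q v, show a' * v * a'⁻¹ * (a' * w * a'⁻¹) = a' * (v * w) * a'⁻¹ by group,
        map_mul, map_mul, map_inv, h1.eq, mul_inv_cancel_right]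
    have hwc : Commute (q v) (q w) := hqcomm v hv w hw
    have hw' : a' * w * a'⁻¹ ∈ N := (inferInstance : N.Normal).conj_mem w hw _
    rw [hd, map_mul q (a' * v * a'⁻¹), map_mul q (a' * w * a'⁻¹), map_inv, map_inv, mul_inv_rev,
      inv_inv, eq_mul_inv_of_mul_eq h2, mul_assoc (q v * q w), mul_assoc (q v),
      ((hqcomm _ hw' _ hv).inv_left.inv_right).eq]
    rw [← mul_assoc (q w), ← mul_assoc (q v), ← mul_assoc (q v) (q w), hwc.eq,
      mul_assoc (q w) (q v), mul_inv_cancel, mul_one]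
  have hall : M d = ⊤ := by
    have hwd : M w ≤ M d := fun g hg => Subgroup.mem_centralizer_singleton_iff.2 (by
      rw [hdw]; exact (hSd w hw g hg).inv_right.eq)
    have hvd : M v ≤ M d := fun g hg => Subgroup.mem_centralizer_singleton_iff.2 (hSd v hv g hg).eq
    rcases hmax v hv hvne _ hvd with h1 | h1
    · exfalso
      rcases hmax w hw hwne _ (h1 ▸ hwd) with h2 | h2
      · exact hmw (h2 ▸ hmv)
      · exact hvne h2
    · exact h1
  have hed : Commute (q a') (q d) :=
    Subgroup.mem_centralizer_singleton_iff.1 (show e ∈ M d from hall ▸ Subgroup.mem_top e)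
  have hpow : ∀ n : ℕ, q a' ^ n * q v * (q a' ^ n)⁻¹ = q d ^ n * q v := by
    intro n
    induction n with
    | zero => simp
    | succ n ih =>
      have h1 : q a' * q v * (q a')⁻¹ = q d * q v := by
        rw [← map_inv, ← map_mul, ← map_mul, ← map_mul, hd]; congr 1; group
      calc q a' ^ (n + 1) * q v * (q a' ^ (n + 1))⁻¹
          = q a' * (q a' ^ n * q v * (q a' ^ n)⁻¹) * (q a')⁻¹ := by rw [pow_succ']; group
        _ = q a' * q d ^ n * q v * (q a')⁻¹ := by rw [ih, ← mul_assoc]
        _ = q d ^ n * (q a' * q v * (q a')⁻¹) := by rw [(hed.pow_right n).eq]; group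
        _ = q d ^ (n + 1) * q v := by rw [h1, pow_succ, mul_assoc]
  obtain ⟨j, hj⟩ := CfsgLib.PGroup.Basic.exists_orderOf_eq_pow_of_mem P.2 e.2
  have h4 := hpow (orderOf a')
  rw [← map_pow, pow_orderOf_eq_one, map_one, inv_one, one_mul, mul_one, right_eq_mul] at h4
  apply hdD
  rw [← QuotientGroup.eq_one_iff]
  change q d = 1
  have h5 : orderOf (q d) ∣ Nat.card N :=
    ((orderOf_map_dvd q d).trans (by
      rw [← Subgroup.orderOf_mk d hdN]; exact _root_.orderOf_dvd_natCard _))
  exact orderOf_eq_one_iff.1 (Nat.eq_one_of_dvd_coprimes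
    (Nat.Coprime.pow_left j (hp.out.coprime_iff_not_dvd.2 hpN))
    (hj ▸ orderOf_dvd_of_pow_eq_one h4) h5)

end CfsgLib.SquarefreeClass
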