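import Cfsg.Agent.Lib.SquarefreeClass.Module
import Cfsg.Agent.Lib.SquarefreeClass.Derived
import Cfsg.Agent.Lib.SquarefreeClass.Main
import Cfsg.Agent.Lib.Components.FrattiniQuotient
import Cfsg.Agent.Lib.OddOrder.Basic
import Cfsg.Agent.Lib.Solvable.Supersolvable

/-!
The structure of supersolvable groups with square-free class sizes.
-/

set_option autoImplicit false
set_option linter.unusedSectionVars false
set_option linter.style.haveILetI false

namespace CfsgLib.SquarefreeClass

open CfsgLib.Solvable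
open scoped commutatorElement

variable {G : Type*} [Group G] [Finite G]

theorem commutator_le_fitting (hG : Cfsg.IsSupersolvable G) :
    _root_.commutator G ≤ Cfsg.fittingSubgroup G :=
  Cores.le_fittingSubgroup (Supersolvable.commutator_isNilpotent_aux _ G rfl hG)

theorem PPSquarefree.of_all (h : ∀ x : G, Squarefree (Subgroup.centralizer ({x} : Set G)).index) :
    PPSquarefree G := fun x _ => h x

theorem not_sq_dvd {n p : ℕ} (hp : p.Prime) (h : Squarefree n) : ¬ p ^ 2 ∣ n := fun hd =>
  hp.ne_one (Nat.isUnit_iff.1 (h p (by rwa [← sq])))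

theorem PPSquarefree.pel (h : PPSquarefree G) {p : ℕ} [hp : Fact p.Prime] {x : G} (hx : IsPEl p x) :
    Squarefree (Subgroup.centralizer ({x} : Set G)).index := by
  obtain ⟨k, hk⟩ := hx
  exact h x ⟨p, k, hp.out, hk⟩

/-- The `p'`-part of the Fitting subgroup. -/
noncomputable def fitPrime (p : ℕ) (G : Type*) [Group G] : Subgroup G :=
  Cfsg.fittingSubgroup G ⊓ Cfsg.pPrimeCore p G

instance fitPrime_normal (p : ℕ) : (fitPrime p G).Normal := by
  rw [fitPrime]; infer_instance

theorem fitPrime_le (p : ℕ) : fitPrime p G ≤ Cfsg.fittingSubgroup G := inf_le_left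

theorem not_dvd_card_fitPrime (p : ℕ) (hp : p.Prime) : ¬ p ∣ Nat.card (fitPrime p G) := fun hd =>
  hp.coprime_iff_not_dvd.1 (Cores.coprime_card_pPrimeCore (G := G) p).symm
    (hd.trans (Subgroup.card_dvd_of_le inf_le_right))

instance fitPrime_isNilpotent (p : ℕ) : Group.IsNilpotent (fitPrime p G) :=
  haveI := Cores.fittingSubgroup_isNilpotent (G := G)
  Subgroup.isNilpotent_of_ker_le_center (Subgroup.inclusion (fitPrime_le p))
    (by rw [(MonoidHom.ker_eq_bot_iff _).2 (Subgroup.inclusion_injective _)]; exact bot_le)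

theorem pCore_le_fitPrime {p r : ℕ} [Fact r.Prime] (hp : p.Prime) (h : r ≠ p) :
    Cfsg.pCore r G ≤ fitPrime p G :=
  le_inf (Cores.pCore_le_fittingSubgroup r) (Cores.pCore_le_pPrimeCore hp h)

theorem fitting_le_sup (p : ℕ) [hp : Fact p.Prime] :
    Cfsg.fittingSubgroup G ≤ Cfsg.pCore p G ⊔ fitPrime p G := by
  conv_lhs => rw [Cores.fittingSubgroup_eq_iSup_pCore]
  refine iSup_le fun q => ?_
  by_cases hq : (q : ℕ) = p
  · rw [hq]; exact le_sup_left
  · haveI := Fact.mk q.2
    exact (pCore_le_fitPrime hp.out hq).trans le_sup_right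

theorem commute_pCore_fitPrime (p : ℕ) [hp : Fact p.Prime] {x y : G} (hx : x ∈ Cfsg.pCore p G)
    (hy : y ∈ fitPrime p G) : Commute x y := by
  refine commute_of_commutator ?_
  have h1 : ⁅x, y⁆ ∈ Cfsg.pCore p G ⊓ fitPrime p G := by
    refine Subgroup.mem_inf.2 ⟨?_, ?_⟩
    · rw [commutatorElement_def, show x * y * x⁻¹ * y⁻¹ = x * (y * x⁻¹ * y⁻¹) by group]
      exact mul_mem hx ((inferInstance : (Cfsg.pCore p G).Normal).conj_mem _ (inv_mem hx) y)
    · rw [commutatorElement_def]
      exact mul_mem ((inferInstance : (fitPrime p G).Normal).conj_mem y hy x) (inv_mem hy)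
  obtain ⟨k, hk⟩ := CfsgLib.PGroup.Basic.exists_orderOf_eq_pow_of_mem
    (Cores.isPGroup_pCore (G := G) p) h1.1
  refine orderOf_eq_one_iff.1 (Nat.eq_one_of_dvd_coprimes
    (Nat.Coprime.pow_left k (hp.out.coprime_iff_not_dvd.2 (not_dvd_card_fitPrime (G := G) p hp.out)))
    (dvd_of_eq hk) ?_)
  rw [← Subgroup.orderOf_mk ⁅x, y⁆ h1.2]
  exact _root_.orderOf_dvd_natCard _

/-- A `p`-element centralising every other core lies in the Fitting subgroup. -/
theorem mem_fitting_of_commute (hG : _root_.commutator G ≤ Cfsg.fittingSubgroup G) {p : ℕ}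
    [hp : Fact p.Prime] {h : G} (hh : IsPEl p h)
    (hc : ∀ r, ∀ [Fact r.Prime], r ≠ p → ∀ x ∈ Cfsg.pCore r G, Commute h x) :
    h ∈ Cfsg.fittingSubgroup G := by
  set O := Cfsg.pCore p G
  set C := Subgroup.centralizer ({h} : Set G)
  obtain ⟨k, hk⟩ := hh
  set J := Subgroup.zpowers h ⊔ O
  have hJ : IsPGroup p J := (CfsgLib.PGroup.Basic.isPGroup_zpowers (dvd_of_eq hk)).to_sup_of_normal_right
    (Cores.isPGroup_pCore p)
  have hFle : Cfsg.fittingSubgroup G ≤ C ⊔ O := by
    rw [Cores.fittingSubgroup_eq_iSup_pCore]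
    refine iSup_le fun q => ?_
    by_cases hq : (q : ℕ) = p
    · rw [hq]; exact le_sup_right
    · haveI := Fact.mk q.2
      exact le_sup_of_le_left fun x hx => Subgroup.mem_centralizer_singleton_iff.2 (hc q hq x hx).symm.eq
  have hconj : ∀ g : G, g * h * g⁻¹ ∈ J := by
    intro g
    have hcF : ⁅g, h⁆ ∈ Cfsg.fittingSubgroup G := hG (by
      rw [_root_.commutator_def]
      exact Subgroup.commutator_mem_commutator (Subgroup.mem_top g) (Subgroup.mem_top h))
    obtain ⟨x, y, he, hxy, hx, hy⟩ := CfsgLib.PGroup.CountPElements.exists_decomp (p := p) ⁅g, h⁆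
    obtain ⟨hxF, hyF⟩ := parts_mem hx hy hxy (he ▸ hcF)
    obtain ⟨i, hi⟩ := hx
    have hxO : x ∈ O := CfsgLib.Components.FrattiniQuotient.mem_pCore_of_mem_fitting hxF
      (CfsgLib.PGroup.Basic.isPGroup_zpowers (dvd_of_eq hi))
    -- the `p'`-part commutes with `h`
    obtain ⟨c, hcC, o, ho, hco⟩ := Subgroup.mem_sup_of_normal_right.1 (hFle hyF)
    have hoy : Commute o⁻¹ y := by
      haveI := Cores.fittingSubgroup_isNilpotent (G := G)
      obtain ⟨j, hj⟩ := CfsgLib.PGroup.Basic.exists_orderOf_eq_pow_of_mem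
        (Cores.isPGroup_pCore (G := G) p) (inv_mem ho)
      have := CfsgLib.OddOrder.Basic.commute_of_coprime_orderOf
        (a := (⟨o⁻¹, Cores.pCore_le_fittingSubgroup p (inv_mem ho)⟩ : Cfsg.fittingSubgroup G))
        (b := ⟨y, hyF⟩)
        (by rw [Subgroup.orderOf_mk, Subgroup.orderOf_mk, hj]
            exact Nat.Coprime.pow_left j (hp.out.coprime_iff_not_dvd.2 hy))
      exact congrArg Subtype.val this.eq
    have hyC : y ∈ C := by
      have hcy : c = o⁻¹ * y := by rw [hoy.eq, ← hco, mul_inv_cancel_right]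
      exact (parts_mem (S := C) (CfsgLib.PGroup.Basic.exists_orderOf_eq_pow_of_mem
        (Cores.isPGroup_pCore (G := G) p) (inv_mem ho)) hy hoy (hcy ▸ hcC)).2
    have hcy : Commute y h := Subgroup.mem_centralizer_singleton_iff.1 hyC
    have hgh : (x * h) * y = g * h * g⁻¹ := by
      rw [mul_assoc, ← hcy.eq, ← mul_assoc, he, commutatorElement_def, inv_mul_cancel_right]
    have hxh : IsPEl p (x * h) := CfsgLib.PGroup.Basic.exists_orderOf_eq_pow_of_mem hJ
      (mul_mem (le_sup_right (a := Subgroup.zpowers h) hxO) (le_sup_left (b := O) (Subgroup.mem_zpowers h)))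
    have h1 := CfsgLib.PGroup.CountPElements.decomp_left_unique (p := p) (x := x * h) (y := y)
      (x' := g * h * g⁻¹) (y' := 1) (hxy.mul_left hcy.symm) (Commute.one_right _) hxh
      ⟨k, by rw [orderOf_conj, hk]⟩ hy (by rw [orderOf_one]; exact hp.out.not_dvd_one)
      (by rw [hgh, mul_one])
    rw [← h1]
    exact mul_mem (le_sup_right (a := Subgroup.zpowers h) hxO) (le_sup_left (b := O) (Subgroup.mem_zpowers h))
  haveI : J.Normal := by
    rw [← Subgroup.normalizer_eq_top_iff, ← top_le_iff]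
    intro g _
    rw [Subgroup.mem_normalizer_iff_map_conj_eq]
    refine Subgroup.eq_of_le_of_card_ge ?_ (le_of_eq
      (Subgroup.card_map_of_injective (MulAut.conj g).injective).symm)
    rw [Subgroup.map_sup, MonoidHom.map_zpowers]
    refine sup_le (Subgroup.zpowers_le.2 (hconj g)) ?_
    rintro _ ⟨o, ho, rfl⟩
    exact le_sup_right (a := Subgroup.zpowers h) ((inferInstance : O.Normal).conj_mem o ho g)
  exact Cores.pCore_le_fittingSubgroup p (Cores.le_pCore hJ (le_sup_left (b := O) (Subgroup.mem_zpowers h)))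

/-- Conjugation by an element of the derived group on a normal subgroup of the Fitting subgroup. -/
theorem commutator_trivial_mod (hG : _root_.commutator G ≤ Cfsg.fittingSubgroup G) (N : Subgroup G)
    [N.Normal] (h : ∀ r, ∀ [Fact r.Prime], ∀ c ∈ Cfsg.pCore r G, ∀ v ∈ N,
      c * v * c⁻¹ * v⁻¹ ∈ ⁅N, N⁆) :
    ∀ c ∈ _root_.commutator G, ∀ v ∈ N, c * v * c⁻¹ * v⁻¹ ∈ ⁅N, N⁆ := by
  set q := QuotientGroup.mk' ⁅N, N⁆
  have hle : Cfsg.fittingSubgroup G ≤
      (Subgroup.centralizer ((N.map q : Subgroup _) : Set (G ⧸ ⁅N, N⁆))).comap q := by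
    rw [Cores.fittingSubgroup_eq_iSup_pCore]
    refine iSup_le fun r c hc => ?_
    haveI := Fact.mk r.2
    rintro _ ⟨v, hv, rfl⟩
    have : q (c * v * c⁻¹ * v⁻¹) = 1 := (QuotientGroup.eq_one_iff _).2 (h r c hc v hv)
    rw [map_mul, map_mul, map_mul, map_inv, map_inv, ← commutatorElement_def,
      commutatorElement_eq_one_iff_mul_comm] at this
    exact this.symm
  intro c hc v hv
  rw [← QuotientGroup.eq_one_iff]
  change q _ = 1
  rw [map_mul, map_mul, map_mul, map_inv, map_inv, ← commutatorElement_def,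
    commutatorElement_eq_one_iff_mul_comm]
  exact (hle (hG hc) (q v) ⟨v, hv, rfl⟩).symm

/-- The `p`-th power of a `p`-element lies in the Fitting subgroup. -/
theorem pow_mem_fitting (h : PPSquarefree G) (hG : _root_.commutator G ≤ Cfsg.fittingSubgroup G)
    {p : ℕ} [hp : Fact p.Prime] {g : G} (hg : IsPEl p g) : g ^ p ∈ Cfsg.fittingSubgroup G := by
  obtain ⟨k, hk⟩ := hg
  refine mem_fitting_of_commute hG
    (CfsgLib.PGroup.Basic.exists_orderOf_eq_pow_of_pow_eq_one (k := k)
      (by rw [pow_right_comm, ← hk, pow_orderOf_eq_one, one_pow])) fun r _ hr x hx => ?_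
  obtain ⟨P, hP⟩ := CfsgLib.PGroup.Basic.mem_sylow_of_orderOf (p := p) ⟨k, hk⟩
  set N := Cfsg.pCore r G
  haveI := Cores.pCore_isNilpotent (G := G) r
  have hpN : ¬ p ∣ Nat.card N := fun hd =>
    hp.out.coprime_iff_not_dvd.1 (Cores.coprime_card_pCore hp.out hr).symm hd
  have hG' := commutator_trivial_mod hG N fun q _ c hc v hv => by
    by_cases hq : q = r
    · subst hq
      rw [← commutatorElement_def]
      exact Subgroup.commutator_mem_commutator hc hv
    · have := commute_pCore_fitPrime q hc (pCore_le_fitPrime (Fact.out : q.Prime) (Ne.symm hq) hv)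
      rw [this.eq, mul_inv_cancel_right, mul_inv_cancel]
      exact one_mem _
  have hidx := relIndex_centralizer_dvd P N hpN hG'
    fun v hv => h.pel (CfsgLib.PGroup.Basic.exists_orderOf_eq_pow_of_mem (Cores.isPGroup_pCore r) hv)
  set K := (Subgroup.centralizer (N : Set G)).subgroupOf (P : Subgroup G)
  have hmem : (⟨g, hP⟩ : (P : Subgroup G)) ^ p ∈ K := by
    obtain ⟨z, hz⟩ := hidx
    have h2 := Subgroup.pow_mem _ (K.pow_index_mem ⟨g, hP⟩) z
    rw [← pow_mul] at h2
    exact (congrArg (fun n => (⟨g, hP⟩ : (P : Subgroup G)) ^ n ∈ K) hz).mpr h2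
  exact ((hmem : g ^ p ∈ Subgroup.centralizer (N : Set G)) x hx).symm

/-- The quotient by the Fitting subgroup is abelian of square-free exponent. -/
theorem quotient_fitting (h : PPSquarefree G) (hG : _root_.commutator G ≤ Cfsg.fittingSubgroup G) :
    IsMulCommutative (G ⧸ Cfsg.fittingSubgroup G) ∧
      Squarefree (Monoid.exponent (G ⧸ Cfsg.fittingSubgroup G)) := by
  set F := Cfsg.fittingSubgroup G
  have hcomm : IsMulCommutative (G ⧸ F) :=
    Subgroup.Normal.quotient_commutative_iff_commutator_le.2 hG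
  refine ⟨hcomm, ?_⟩
  haveI := hcomm
  rw [Nat.squarefree_iff_prime_squarefree]
  intro p hp hd
  haveI := Fact.mk hp
  letI : CommGroup (G ⧸ F) :=
    { (inferInstance : Group (G ⧸ F)) with mul_comm := mul_comm' }
  obtain ⟨q₀, hq₀⟩ := Monoid.exists_orderOf_eq_exponent (G := G ⧸ F)
    Monoid.ExponentExists.of_finite
  rw [← hq₀] at hd
  obtain ⟨j, hj⟩ := hd
  have hord : orderOf (q₀ ^ j) = p * p := by
    have hj0 : j ≠ 0 := fun h0 => (orderOf_pos q₀).ne' (by rw [hj, h0, mul_zero])
    rw [orderOf_pow' _ hj0, hj, Nat.gcd_mul_left_left,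
      Nat.mul_div_cancel _ (Nat.pos_of_ne_zero hj0)]
  obtain ⟨g, hg⟩ := QuotientGroup.mk'_surjective F (q₀ ^ j)
  obtain ⟨a, w, ha, -, hag, -⟩ := exists_pel_lift (QuotientGroup.mk' F) (g := g)
    (p := p) ⟨2, by rw [hg, hord, sq]⟩
  have h1 : QuotientGroup.mk' F (a ^ p) = 1 :=
    (QuotientGroup.eq_one_iff _).2 (pow_mem_fitting h hG ha)
  rw [map_pow, hag, hg] at h1
  have h2 := Nat.le_of_dvd hp.pos (hord ▸ orderOf_dvd_of_pow_eq_one h1)
  have h3 : p < p * p := lt_mul_self hp.one_lt
  omega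

theorem card_sup_dvd (A B : Subgroup G) [B.Normal] :
    Nat.card (A ⊔ B : Subgroup G) ∣ Nat.card A * Nat.card B := by
  rw [← (B.subgroupOf (A ⊔ B)).card_mul_index,
    Nat.card_congr (Subgroup.subgroupOfEquivOfLe (le_sup_right : B ≤ A ⊔ B)).toEquiv, mul_comm (Nat.card A)]
  refine Nat.mul_dvd_mul_left _ ?_
  change B.relIndex (A ⊔ B) ∣ _
  rw [Subgroup.relIndex_sup_right]
  exact Subgroup.relIndex_dvd_card B A

theorem derived_fitting_le (p : ℕ) [hp : Fact p.Prime] :
    ⁅Cfsg.fittingSubgroup G, Cfsg.fittingSubgroup G⁆ ≤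
      ⁅Cfsg.pCore p G, Cfsg.pCore p G⁆ ⊔ fitPrime p G := by
  set F := Cfsg.fittingSubgroup G
  set O := Cfsg.pCore p G
  set q := QuotientGroup.mk' (fitPrime p G)
  have hF : F.map q ≤ O.map q := by
    refine (Subgroup.map_mono (fitting_le_sup p)).trans ?_
    rw [Subgroup.map_sup, QuotientGroup.map_mk'_self, sup_bot_eq]
  have h1 : ⁅F, F⁆.map q ≤ ⁅O, O⁆.map q := by
    rw [Subgroup.map_commutator, Subgroup.map_commutator]
    exact Subgroup.commutator_mono hF hF
  have := (Subgroup.map_le_iff_le_comap.1 h1)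
  rwa [Subgroup.comap_map_eq, QuotientGroup.ker_mk'] at this

theorem pCore_breadth (h : PPSquarefree G) (p : ℕ) [hp : Fact p.Prime] :
    ⁅Cfsg.pCore p G, Cfsg.pCore p G⁆ ≤ Subgroup.centralizer (Cfsg.pCore p G : Set G) ∧
      Nat.card (⁅Cfsg.pCore p G, Cfsg.pCore p G⁆ : Subgroup G) ∣ p :=
  breadth_one_normal (Cores.isPGroup_pCore p) fun g hg => not_sq_dvd hp.out
    (h.pel (CfsgLib.PGroup.Basic.exists_orderOf_eq_pow_of_mem (Cores.isPGroup_pCore p) hg))

theorem squarefree_derived_fitting (h : PPSquarefree G) :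
    Squarefree (Nat.card (⁅Cfsg.fittingSubgroup G, Cfsg.fittingSubgroup G⁆ : Subgroup G)) := by
  rw [Nat.squarefree_iff_prime_squarefree]
  intro p hp hd
  haveI := Fact.mk hp
  have h1 : p * p ∣ p * Nat.card (fitPrime p G) := hd.trans
    ((Subgroup.card_dvd_of_le (derived_fitting_le p)).trans
      ((card_sup_dvd _ _).trans (Nat.mul_dvd_mul_right (pCore_breadth h p).2 _)))
  exact not_dvd_card_fitPrime p hp (Nat.dvd_of_mul_dvd_mul_left hp.pos h1)

theorem derived_fitting_central (h : PPSquarefree G) :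
    ⁅Cfsg.fittingSubgroup G, Cfsg.fittingSubgroup G⁆ ≤
      Subgroup.centralizer (Cfsg.fittingSubgroup G : Set G) := by
  rw [Subgroup.le_centralizer_iff]
  conv_lhs => rw [Cores.fittingSubgroup_eq_iSup_pCore]
  refine iSup_le fun q => ?_
  haveI := Fact.mk q.2
  intro o ho z hz
  obtain ⟨r, hr, y, hy, rfl⟩ := Subgroup.mem_sup_of_normal_right.1 (derived_fitting_le (q : ℕ) hz)
  have h1 : Commute r o := ((pCore_breadth h (q : ℕ)).1 hr o ho).symm
  exact h1.mul_left (commute_pCore_fitPrime (q : ℕ) ho hy).symm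

theorem class_two (h : PPSquarefree G) :
    Subgroup.upperCentralSeries ↥(Cfsg.fittingSubgroup G) 2 = ⊤ := by
  rw [eq_top_iff]
  intro x _
  rw [show (2 : ℕ) = 1 + 1 from rfl, Subgroup.mem_upperCentralSeries_succ_iff]
  intro y
  rw [Subgroup.upperCentralSeries_one, Subgroup.mem_center_iff]
  intro z
  apply Subtype.ext
  have hm : ((x * y * x⁻¹ * y⁻¹ : Cfsg.fittingSubgroup G) : G) ∈
      ⁅Cfsg.fittingSubgroup G, Cfsg.fittingSubgroup G⁆ := by
    simpa [commutatorElement_def] using Subgroup.commutator_mem_commutator x.2 y.2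
  exact derived_fitting_central h hm z z.2

/-! ### All class sizes square-free -/

section All

variable (h : ∀ x : G, Squarefree (Subgroup.centralizer ({x} : Set G)).index)
include h

theorem squarefree_index_fitting (hG : _root_.commutator G ≤ Cfsg.fittingSubgroup G) :
    Squarefree (Cfsg.fittingSubgroup G).index := by
  set F := Cfsg.fittingSubgroup G
  rw [Nat.squarefree_iff_prime_squarefree]
  intro p hp hd
  haveI := Fact.mk hp
  let P : Sylow p G := default
  set N := fitPrime p G
  have hG' := commutator_trivial_mod hG N fun r _ c hc v hv => by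
    by_cases hr : r = p
    · subst hr
      rw [(commute_pCore_fitPrime r hc hv).eq, mul_inv_cancel_right, mul_inv_cancel]
      exact one_mem _
    · rw [← commutatorElement_def]
      exact Subgroup.commutator_mem_commutator (pCore_le_fitPrime hp hr hc) hv
  have hidx := relIndex_centralizer_dvd P N (not_dvd_card_fitPrime p hp) hG' fun v _ => h v
  have hle : Subgroup.centralizer (N : Set G) ⊓ (P : Subgroup G) ≤ F ⊓ (P : Subgroup G) := by
    refine le_inf (fun x hx => mem_fitting_of_commute hG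
      (CfsgLib.PGroup.Basic.exists_orderOf_eq_pow_of_mem P.2 hx.2) fun r _ hr y hy => ?_) inf_le_right
    exact (hx.1 y (pCore_le_fitPrime hp hr hy)).symm
  have hFP : F.relIndex (P : Subgroup G) ∣ p := by
    refine dvd_trans ?_ hidx
    rw [← Subgroup.inf_relIndex_right, ← Subgroup.inf_relIndex_right (Subgroup.centralizer (N : Set G))]
    exact Subgroup.relIndex_dvd_of_le_left _ hle
  have h1 := Subgroup.relIndex_mul_index (le_sup_right : F ≤ (P : Subgroup G) ⊔ F)
  rw [Subgroup.relIndex_sup_right] at h1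
  have hnd : ¬ p ∣ ((P : Subgroup G) ⊔ F).index :=
    CfsgLib.PGroup.Basic.not_dvd_index_of_sylow_le (P := P) le_sup_left
  rw [← h1] at hd
  exact hnd (Nat.dvd_of_mul_dvd_mul_left hp.pos (hd.trans (Nat.mul_dvd_mul_right hFP _)))

theorem isCyclic_quotient_fitting (hG : _root_.commutator G ≤ Cfsg.fittingSubgroup G) :
    IsCyclic (G ⧸ Cfsg.fittingSubgroup G) := by
  set F := Cfsg.fittingSubgroup G
  haveI := (quotient_fitting (PPSquarefree.of_all h) hG).1
  letI : CommGroup (G ⧸ F) :=
    { (inferInstance : Group (G ⧸ F)) with mul_comm := mul_comm' }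
  refine IsCyclic.of_exponent_eq_card (Nat.dvd_antisymm Group.exponent_dvd_nat_card ?_)
  have hs : Squarefree (Nat.card (G ⧸ F)) := by
    rw [← Subgroup.index_eq_card]; exact squarefree_index_fitting h hG
  conv_lhs => rw [← Nat.prod_primeFactors_of_squarefree hs]
  refine Finset.prod_primes_dvd _ (fun r hr => (Nat.prime_of_mem_primeFactors hr).prime) fun r hr => ?_
  haveI := Fact.mk (Nat.prime_of_mem_primeFactors hr)
  obtain ⟨z, hz⟩ := exists_prime_orderOf_dvd_card' (G := G ⧸ F) r (Nat.dvd_of_mem_primeFactors hr)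
  exact hz ▸ Monoid.order_dvd_exponent z

theorem squarefree_commutator (hG : _root_.commutator G ≤ Cfsg.fittingSubgroup G) :
    Squarefree (Nat.card (_root_.commutator G)) := by
  set F := Cfsg.fittingSubgroup G
  rw [Nat.squarefree_iff_prime_squarefree]
  intro p hp hd
  haveI := Fact.mk hp
  set N := fitPrime p G
  set q := QuotientGroup.mk' N
  have hqs : Function.Surjective q := QuotientGroup.mk'_surjective N
  set A := (Cfsg.pCore p G).map q with hA
  haveI : A.Normal := Subgroup.Normal.map inferInstance _ hqs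
  have hApg : IsPGroup p A := (Cores.isPGroup_pCore p).map q
  have hFA : F.map q ≤ A := by
    refine (Subgroup.map_mono (fitting_le_sup p)).trans ?_
    rw [Subgroup.map_sup, QuotientGroup.map_mk'_self, sup_bot_eq]
  let S : Sylow p (G ⧸ N) := default
  have hAS : A ≤ (S : Subgroup (G ⧸ N)) := hApg.le_sylow_of_normal S
  have hG'A : _root_.commutator (G ⧸ N) ≤ A := by
    rw [_root_.commutator_def, ← Subgroup.map_top_of_surjective q hqs, ← Subgroup.map_commutator,
      ← _root_.commutator_def]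
    exact (Subgroup.map_mono hG).trans hFA
  haveI hSn : (S : Subgroup (G ⧸ N)).Normal :=
    ⟨fun x hx g => by
      have : ⁅g, x⁆ ∈ (S : Subgroup (G ⧸ N)) := hAS (hG'A (by
        rw [_root_.commutator_def]
        exact Subgroup.commutator_mem_commutator (Subgroup.mem_top g) (Subgroup.mem_top x)))
      have h2 := mul_mem this hx
      rwa [commutatorElement_def, inv_mul_cancel_right] at h2⟩
  -- a generator modulo the Fitting subgroup
  haveI := isCyclic_quotient_fitting h hG
  obtain ⟨g₀, hg₀⟩ := IsCyclic.exists_generator (α := G ⧸ F)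
  obtain ⟨g, rfl⟩ := QuotientGroup.mk'_surjective F g₀
  obtain ⟨x, a, he, hxa, hx, ha⟩ := CfsgLib.PGroup.CountPElements.exists_decomp (p := p) (q g)
  have hxS : x ∈ (S : Subgroup (G ⧸ N)) := mem_sylow_of_normalizer S hx (by
    rw [Subgroup.normalizer_eq_top]; trivial)
  have hgen : (S : Subgroup (G ⧸ N)) ⊔ Subgroup.zpowers a = ⊤ := by
    rw [eq_top_iff]
    intro z _
    obtain ⟨y, rfl⟩ := hqs z
    obtain ⟨i, hi⟩ := Subgroup.mem_zpowers_iff.1 (hg₀ (QuotientGroup.mk' F y))
    rw [← map_zpow, QuotientGroup.mk'_eq_mk'] at hi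
    obtain ⟨f, hf, hfy⟩ := hi
    rw [← hfy, map_mul, map_zpow, ← he]
    refine mul_mem (zpow_mem (mul_mem (le_sup_left (b := Subgroup.zpowers a) hxS)
      (le_sup_right (a := (S : Subgroup (G ⧸ N))) (Subgroup.mem_zpowers a))) i) ?_
    exact le_sup_left (b := Subgroup.zpowers a) (hAS (hFA (Subgroup.mem_map_of_mem q hf)))
  have hcard := card_commutator_cyclic_ext (S : Subgroup (G ⧸ N)) S.2 ha hgen fun z => by
    obtain ⟨y, rfl⟩ := hqs z
    exact not_sq_dvd hp ((h y).squarefree_of_dvd (csz_map_dvd q hqs y))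
  have hmap : (_root_.commutator G).map q = _root_.commutator (G ⧸ N) := by
    rw [_root_.commutator_def, Subgroup.map_commutator, Subgroup.map_top_of_surjective q hqs,
      ← _root_.commutator_def]
  have hdvd : Nat.card (_root_.commutator G) ∣
      Nat.card (_root_.commutator (G ⧸ N)) * Nat.card N := by
    rw [← (N.subgroupOf (_root_.commutator G)).index_mul_card]
    refine Nat.mul_dvd_mul (dvd_of_eq ?_) ?_
    · rw [← hmap]
      show N.relIndex (_root_.commutator G) = _
      conv_lhs => rw [← QuotientGroup.ker_mk' N]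
      rw [Subgroup.relIndex_ker]
    · rw [← Subgroup.card_map_of_injective (K := N.subgroupOf (_root_.commutator G))
        (_root_.commutator G).subtype_injective]
      exact Subgroup.card_dvd_of_le (by
        rintro _ ⟨z, hz, rfl⟩
        exact hz)
  exact not_dvd_card_fitPrime p hp (Nat.dvd_of_mul_dvd_mul_left hp.pos
    (hd.trans (hdvd.trans (Nat.mul_dvd_mul_right hcard _))))

end All

end CfsgLib.SquarefreeClass
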