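import Cfsg.Agent.Lib.SquarefreeClass.Count
import Cfsg.Agent.Lib.Coprime.ClassSizeGraph
import Cfsg.Agent.Lib.Solvable.Supersolvable
import Cfsg.Agent.Lib.Solvable.Cores

/-!
A solvable group in which prime power elements have square-free class sizes is supersolvable.
-/

set_option autoImplicit false
set_option linter.unusedSectionVars false
set_option linter.style.haveILetI false

namespace CfsgLib.SquarefreeClass

open CfsgLib.Solvable

/-- Elements of prime power order have square-free class sizes. -/
def PPSquarefree (G : Type*) [Group G] : Prop :=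
  ∀ x : G, (∃ r k : ℕ, r.Prime ∧ orderOf x = r ^ k) →
    Squarefree (Subgroup.centralizer ({x} : Set G)).index

variable {G : Type*} [Group G] [Finite G]

theorem map_pel {H : Type*} [Group H] (f : G →* H) {p : ℕ} [hp : Fact p.Prime] {x : G}
    (hx : IsPEl p x) : IsPEl p (f x) := by
  obtain ⟨k, hk⟩ := hx
  exact CfsgLib.PGroup.Basic.exists_orderOf_eq_pow_of_pow_eq_one (k := k)
    (by rw [← map_pow, ← hk, pow_orderOf_eq_one, map_one])

/-- A `p`-element of a quotient lifts to a `p`-element. -/
theorem exists_pel_lift {H : Type*} [Group H] [Finite H] (f : G →* H) {p : ℕ} [hp : Fact p.Prime] {g : G}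
    (hg : IsPEl p (f g)) : ∃ a w : G, IsPEl p a ∧ a * w = g ∧ f a = f g ∧ f w = 1 := by
  obtain ⟨a, w, he, hc, ha, hw⟩ := CfsgLib.PGroup.CountPElements.exists_decomp (p := p) g
  have h1 : f a = f g := CfsgLib.PGroup.CountPElements.decomp_left_unique (p := p)
    (x := f a) (y := f w) (x' := f g) (y' := 1) (hc.map f) (Commute.one_right _) (map_pel f ha) hg
    (fun hd => hw (hd.trans (orderOf_map_dvd f w)))
    (by rw [orderOf_one]; exact hp.out.not_dvd_one) (by rw [← map_mul, he, mul_one])
  refine ⟨a, w, ha, he, h1, ?_⟩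
  have h2 : f a * f w = f a * 1 := by rw [← map_mul, he, mul_one, h1]
  exact mul_left_cancel h2

theorem csz_map_dvd {H : Type*} [Group H] (f : G →* H) (hf : Function.Surjective f) (g : G) :
    (Subgroup.centralizer ({f g} : Set H)).index ∣ (Subgroup.centralizer ({g} : Set G)).index := by
  refine (Subgroup.index_dvd_of_le ?_).trans (Subgroup.index_map_dvd _ hf)
  rintro _ ⟨c, hc, rfl⟩
  rw [Subgroup.mem_centralizer_singleton_iff, ← map_mul, ← map_mul,
    Subgroup.mem_centralizer_singleton_iff.1 hc]

theorem PPSquarefree.quotient (h : PPSquarefree G) (N : Subgroup G) [N.Normal] :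
    PPSquarefree (G ⧸ N) := by
  rintro x ⟨r, k, hr, hk⟩
  haveI := Fact.mk hr
  obtain ⟨g, rfl⟩ := QuotientGroup.mk'_surjective N x
  obtain ⟨a, w, ha, -, hag, -⟩ := exists_pel_lift (QuotientGroup.mk' N) ⟨k, hk⟩
  obtain ⟨j, hj⟩ := ha
  rw [← hag]
  exact (h a ⟨r, j, hr, hj⟩).squarefree_of_dvd (csz_map_dvd _ (QuotientGroup.mk'_surjective N) a)

theorem prime_of_squarefree_pow {r : ℕ} (hr : r.Prime) {k : ℕ} (h : Squarefree (r ^ k)) :
    r ^ k ∣ r := by
  rcases Nat.lt_or_ge k 2 with hk | hk
  · calc r ^ k ∣ r ^ 1 := pow_dvd_pow r (by omega)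
      _ = r := pow_one r
  · exact absurd (Nat.isUnit_iff.1 (h r (by rw [← sq]; exact pow_dvd_pow r hk))) hr.ne_one

theorem isSupersolvable_aux : ∀ (n : ℕ) (G : Type*) [Group G] [Finite G], Nat.card G ≤ n →
    Group.IsSolvable G → PPSquarefree G → Cfsg.IsSupersolvable G := by
  intro n
  induction n with
  | zero => intro G _ _ hn _ _; exact absurd hn (not_le.2 Nat.card_pos)
  | succ n ih =>
    intro G _ _ hn hsol h
    haveI := hsol
    rcases subsingleton_or_nontrivial G with hs | hs
    · exact Supersolvable.of_subsingleton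
    obtain ⟨N, r, hr, hNn, hNne, -, hNc, hNp, hmin⟩ :=
      Basic.exists_minimal_normal_pgroup (G := G) (H := ⊤) top_ne_bot
    haveI := hNn
    haveI := Fact.mk hr
    have hquot : ∀ M : Subgroup G, M.Normal → M ≠ ⊥ → ∀ [M.Normal], Cfsg.IsSupersolvable (G ⧸ M) := by
      intro M hM hMne _
      have := Basic.card_quotient_lt M hMne
      exact ih (G ⧸ M) (by omega)
        (Group.isSolvable_of_surjective (QuotientGroup.mk'_surjective M)) (h.quotient M)
    suffices hcard : (Nat.card N).Prime by
      haveI := Supersolvable.isCyclic_of_prime_card_subgroup hcard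
      exact Supersolvable.of_isCyclic_normal N (hquot N hNn hNne)
    obtain ⟨e, he⟩ := hNp.exists_card_eq
    have he0 : e ≠ 0 := fun h0 => hNne (Subgroup.eq_bot_of_card_eq _ (by rw [he, h0, pow_zero]))
    suffices hdvd : r ^ e ∣ r by
      rw [he, show r ^ e = r from Nat.dvd_antisymm hdvd (dvd_pow_self r he0)]; exact hr
    set K := Subgroup.centralizer (N : Set G) with hK
    by_cases hKtop : K = ⊤
    · -- a central minimal normal subgroup
      have hd : r ∣ Nat.card N := by rw [he]; exact dvd_pow_self r he0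
      obtain ⟨z, hz⟩ := exists_prime_orderOf_dvd_card' r hd
      haveI : (Subgroup.zpowers (z : G)).Normal := ⟨fun y hy g => by
        obtain ⟨i, rfl⟩ := Subgroup.mem_zpowers_iff.1 hy
        have h1 : g * (z : G) ^ i * g⁻¹ = (z : G) ^ i := by
          rw [mul_inv_eq_iff_eq_mul]
          exact ((hKtop ▸ Subgroup.mem_top g : g ∈ K) _ (zpow_mem z.2 i)).symm
        rw [h1]; exact hy⟩
      have hZ := (hmin (Subgroup.zpowers (z : G)) inferInstance
        (Subgroup.zpowers_le.2 z.2)).resolve_left fun hb => by
          rw [Subgroup.zpowers_eq_bot] at hb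
          have h1 : orderOf (z : G) = r := by rw [Subgroup.orderOf_coe, hz]
          rw [hb, orderOf_one] at h1
          exact hr.ne_one h1.symm
      rw [← he, ← hZ, Nat.card_zpowers, Subgroup.orderOf_coe, hz]
    · haveI : K.Normal := inferInstance
      have hKne : K ≠ ⊥ := fun hb => hNne (le_bot_iff.1 (hb ▸ fun v hv u hu => by
        haveI := hNc
        exact congrArg Subtype.val (mul_comm' (⟨u, hu⟩ : N) ⟨v, hv⟩)))
      haveI : Nontrivial (G ⧸ K) := QuotientGroup.nontrivial_iff.2 hKtop
      obtain ⟨Z, hZn, hZ⟩ := Supersolvable.exists_prime_normal (hquot K inferInstance hKne)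
      haveI := hZn
      haveI := Fact.mk hZ
      obtain ⟨x, hx⟩ := exists_prime_orderOf_dvd_card' (G := Z) (Nat.card Z) dvd_rfl
      obtain ⟨g, hg⟩ := QuotientGroup.mk'_surjective K (x : G ⧸ K)
      have hgel : IsPEl (Nat.card Z) (QuotientGroup.mk' K g) :=
        ⟨1, by rw [hg, Subgroup.orderOf_coe, hx, pow_one]⟩
      obtain ⟨a, w, ha, -, hag, -⟩ := exists_pel_lift (QuotientGroup.mk' K) hgel
      obtain ⟨j, hj⟩ := ha
      have hgen : Subgroup.zpowers (QuotientGroup.mk' K a) = Z := by
        refine Subgroup.eq_of_le_of_card_ge (Subgroup.zpowers_le.2 (by rw [hag, hg]; exact x.2)) ?_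
        rw [Nat.card_zpowers, hag, hg, Subgroup.orderOf_coe, hx]
      set D := N ⊓ Subgroup.centralizer ({a} : Set G)
      have hDn : D.Normal := by
        refine ⟨fun v hv g => ⟨hNn.conj_mem v hv.1 g, ?_⟩⟩
        have h1 : QuotientGroup.mk' K (g⁻¹ * a * g) ∈ Subgroup.zpowers (QuotientGroup.mk' K a) := by
          rw [hgen, map_mul, map_mul, map_inv]
          simpa using hZn.conj_mem _ (hgen ▸ Subgroup.mem_zpowers (QuotientGroup.mk' K a))
            (QuotientGroup.mk' K g)⁻¹
        obtain ⟨i, hi⟩ := Subgroup.mem_zpowers_iff.1 h1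
        rw [← map_zpow, QuotientGroup.mk'_eq_mk'] at hi
        obtain ⟨k, hk, hki⟩ := hi
        have hca : Commute (g⁻¹ * a * g) v := by
          rw [← hki]
          exact Commute.mul_left ((show Commute v a from
            Subgroup.mem_centralizer_singleton_iff.1 hv.2).symm.zpow_left i) (hk v hv.1).symm
        have h2 := hca.symm.map (MulAut.conj g)
        rw [MulAut.conj_apply, MulAut.conj_apply,
          show g * (g⁻¹ * a * g) * g⁻¹ = a by group] at h2
        exact Subgroup.mem_centralizer_singleton_iff.2 h2.eq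
      rcases hmin D hDn inf_le_left with hD | hD
      · have h1 := CfsgLib.Coprime.ClassSizeGraph.relIndex_dvd_index_of_normal'
          (Subgroup.centralizer ({a} : Set G)) N
        have h2 : (Subgroup.centralizer ({a} : Set G)).relIndex N = r ^ e := by
          rw [← Subgroup.inf_relIndex_right, inf_comm, show N ⊓ Subgroup.centralizer ({a} : Set G) = ⊥
            from hD, Subgroup.relIndex_bot_left, he]
        exact prime_of_squarefree_pow hr
          (h2 ▸ (h a ⟨Nat.card Z, j, hZ, hj⟩).squarefree_of_dvd h1)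
      · exfalso
        have haK : a ∈ K := fun v hv =>
          (Subgroup.mem_centralizer_singleton_iff.1 ((hD.symm ▸ hv : v ∈ D)).2)
        have h3 : QuotientGroup.mk' K a = 1 := (QuotientGroup.eq_one_iff a).2 haK
        rw [hag, hg] at h3
        have := hZ.ne_one
        rw [← hx, show x = 1 from Subtype.ext h3, orderOf_one] at this
        exact this rfl

theorem isSupersolvable [Group.IsSolvable G] (h : PPSquarefree G) : Cfsg.IsSupersolvable G :=
  isSupersolvable_aux _ G le_rfl inferInstance h

end CfsgLib.SquarefreeClass
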